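import Cfsg.Agent.H996.PQ.BigSum_m3
import Cfsg.Agent.H710.R4.Sph_m3
import Cfsg.Agent.H423.PQ.KqC
import Cfsg.Agent.H766.PQ.A01_m3
import Cfsg.Agent.H35.ExcIdxTw_m3
import Cfsg.Agent.S1063
import Cfsg.Agent.S1066
import Cfsg.Agent.H996.Eight.KqE
import Cfsg.Agent.Prune
set_option linter.all false

section
prune_inst 0x7fffffffffffffffffff7e7fffffffffdbffffffffdfffcbfffeebffbffffb9e3fedffaf9feaf8ff1ff6eeff38f97b53fbffffffef6ffc7ffffdfff71ffbffffffffb7c9f1dcdebeaffcefff9bf07fce7f3fffffffffffffffffffffffffffbeffffffffffff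

-- part: H423/PQ/CoTabTwEa
section
prune_inst 0x1800000000020000000002000300001140040000461c012001060150500e00111004604848c00000000009001000002000860040000000048360e23214150031000640f803180c00000000000000000000000000041000000000000
set_option linter.all false
open scoped Cfsg.Agent.FastGrp

-- part: H423/PQ/CoEnc
section
/-!
# Encoded tables (helper423, for S4612)

The tables of the spherical machine with the digits of natural numbers as data. The states are numbered by increasing
codes of their vectors.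
-/

set_option autoImplicit false

namespace Cfsg.Agent.H423.PQ.Co

open Cfsg.Agent.H996.Eight.En (dig pathOf codeOf)

/-- an encoded table -/
structure Enc (l N m : ℕ) where
  w : List ℤ
  o : ℕ
  V : ℕ
  S : ℕ
  C : ℕ
  P : ℕ
  Q : ℕ
  CP : ℕ
  CQ : ℕ
  R : ℕ
  W : ℕ

variable {l N m : ℕ} [NeZero l] [NeZero N] [NeZero m] (E : Enc l N m)

namespace Enc

def w₀ (i : Fin l) : ℤ := E.w.getD i 0

def vec (s : Fin N) (i : Fin l) : ℤ := Int.subNatNat (dig 4 E.V (Nat.add (Nat.mul l s) i)) 8

def st (i : Fin l) (s : Fin N) : Fin N := Fin.ofNat N (dig 10 E.S (Nat.add (Nat.mul l s) i))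

def cls (s : Fin N) : Fin m := Fin.ofNat m (dig 6 E.C s)

def crep (c : Fin m) : Fin N := Fin.ofNat N (dig 10 E.R c)

def path (s : Fin N) : List (Fin l) := pathOf E.P E.Q 1023 256 s []

def cpath (s : Fin N) : List (Fin l) := pathOf E.CP E.CQ 1023 256 s []

def wl (s : Fin N) : ℕ := dig 8 E.W s

/-- the code of the vector of a state -/
def code (s : ℕ) : ℕ := dig (4 * l) E.V s

omit [NeZero l] [NeZero N] [NeZero m] in
theorem code_inj (h : ∀ s : Fin N, (s : ℕ) + 1 < N → E.code s < E.code ((s : ℕ) + 1)) {a b : Fin N}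
    (hab : E.code a = E.code b) : a = b := by
  have key : ∀ k : ℕ, ∀ a : ℕ, a + k + 1 < N → E.code a < E.code (a + k + 1) := by
    intro k
    induction k with
    | zero => exact fun a ha => h ⟨a, by omega⟩ ha
    | succ k ih =>
      intro a ha
      exact (ih a (by omega)).trans (h ⟨a + k + 1, by omega⟩ ha)
  rcases lt_trichotomy (a : ℕ) b with h1 | h1 | h1
  · have h2 := key ((b : ℕ) - a - 1) a (by omega)
    have h3 : (a : ℕ) + (b - a - 1) + 1 = b := by omega
    rw [h3, hab] at h2
    exact absurd h2 (lt_irrefl _)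
  · exact Fin.ext h1
  · have h2 := key ((a : ℕ) - b - 1) b (by omega)
    have h3 : (b : ℕ) + (a - b - 1) + 1 = a := by omega
    rw [h3, hab] at h2
    exact absurd h2 (lt_irrefl _)

/-- **The table.** -/
def tab (A : Fin l → Fin l → ℤ) (hn : ∀ i, 0 ≤ E.w₀ i)
    (h0 : ∀ k, E.vec (Fin.ofNat N E.o) k = E.w₀ k)
    (h1 : ∀ a : Fin N, E.code a = codeOf (E.vec a))
    (h1' : ∀ s : Fin N, (s : ℕ) + 1 < N → E.code s < E.code ((s : ℕ) + 1))
    (h2 : ∀ i a k, E.vec (E.st i a) k = E.vec a k - A i k * E.vec a i)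
    (h3 : ∀ a, (E.path a).foldl (fun b i => E.st i b) (Fin.ofNat N E.o) = a)
    (h4 : ∀ i, E.w₀ i = 0 → ∀ a, E.cls (E.st i a) = E.cls a)
    (h5 : ∀ a, ∀ i ∈ E.cpath a, E.w₀ i = 0)
    (h6 : ∀ a, (E.cpath a).foldl (fun b i => E.st i b) (E.crep (E.cls a)) = a) : Tab A E.w₀ N m where
  nn := hn
  vec := E.vec
  st := E.st
  cls := E.cls
  o := Fin.ofNat N E.o
  vec_o := h0
  vec_inj a b h := E.code_inj h1' (by rw [h1, h1, h])
  vec_st := h2
  path := E.path
  path_spec := h3
  cls_st := h4
  crep := E.crep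
  cpath := E.cpath
  cpath_ne := h5
  cpath_spec := h6

end Enc

end Cfsg.Agent.H423.PQ.Co
end

-- part: H423/PQ/CoTabTwEa
section
/-!
# The table of the spherical machine: `²E₆`, nodes `0`, `1` (helper423, for S4612; made by a program)

192 states, 60 classes, one certificate.
-/

set_option autoImplicit false
set_option maxRecDepth 20000
set_option maxHeartbeats 1000000

namespace Cfsg.Agent.H423.PQ.CoTabTwEa

open Cfsg.Agent.H423.PQ.Co
open Cfsg.Agent.H996.Eight.En (dig)

/-- the Cartan matrix -/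
def A (i k : Fin 4) : ℤ := (([[2, -1, 0, 0], [-1, 2, -1, 0], [0, -2, 2, -1], [0, 0, -1, 2]] : List (List ℤ)).getD i []).getD k 0

/-- the encoded table -/
def enc : Enc 4 192 60 where
  w := [1, 1, 0, 0]
  o := 97
  V := 4186267243925999735036275471610315890884944683460227223087568092396490781960189683411307804086157803797121709860896471418632151259774966977452747891899783420249812382260924688098341246136647674957011672544142813707512899606455267655708433764345493393320881226911627980002497146884793925983842281855499594667800464513291793431330877871348108244831671067809074949223401881682255354121840426337287917303455736926625420526703657581466579116957288343459794245569013561413057276737042582976184077033420525276557388755624463872724103188739175668370318656861985124871431872832754160407865189752974011915403526921076347213380787325318198543226858435077735342112516376796826191460043050329428780279374198769851617690876258476173004703460206759748298008442549752369833716342371653407013075753419436280967881539236113600908460920650516473806417678454080292924837516824283950988275322789428226073632667707499120253395132898737956631238809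
  S := 184206812024977979220756218350355031746817383589924837414232992145073829735707753993070463222097616066376004933412576629359745591710304008550706428530391975231066219478362515331276948261347965973697890254591550030284664199463137859686398012668265242396912846691987188122952645953050553653164551156757976732076280642323813700264216064819076430021240109355327731207839790875494536121665754079847158132325865333941798758410932377941993768693104518547032754622399553244292344977041015562367580767460971173973302158882295880388224639489245581347742239109802461767498149392837201517065708457787168691458133368304082488157769119706892331289589860048035880974538868184471419694905379594071120642184452791549973181924151512916521940541739159976253933592756940860451066837217869899929041340307966716187156072444973670767993904521218002953098791868840333724132811908276600357557276835012733166418654232697211806802465928216495847023990089749505490752681414046365873836173396357315904695087799861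7181547847934038888757633152929363705520225949748285490388302921360366875230322448000665843438363519269065122094755398943038792359335216814733434973462373374532195342987678672175342862897545754205618355092704048920098813212120129083593473637567275955530770403585603595798675076305685744110065255985668376140441600229562088009028450378492973895090735903081549016346501113237360509059340105560333963432936222726311874868441257555289911657459902802037395549335670692880186794031237969158746616598039446455413472415384714698203113746496758160617571232669724942229151161398365500888783422884981727271890088902767461234829885628008014779195028807527801497016654747032592580562929124399159310662061155787293981915385639581831200404907847147935411698919823725857789440134600704497586303416183659687743362147912956979611819494279838035800204418840714709079999757729967830497941667365186813604780961893786810291692093417312048958096967695592284241379274870239154904366908551725369966356214426085143647572280573575983975508665974238411429001365692446509862149250539511859239580593236036942948535428864460760461216685429032864324276799258278365512889895146926921609415379058867837085886706721302119635910514951354915940172195545730122479578572827356641307596638448294764272718651978362328182297476771300708958630624035613854303277027432450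
  C := 19672815821539408640236653227388774584629183351667986407881111232092061312346120309133066344341817231956392001988856587724370414778465662084748451425102314970204205176585645384071407020699426304542206457612558716080548292871129159609542446269829879894062154729241836228285777763876253503694603823558957363888272647950501001433719356111710518416806
  P := 17174553920078626605672468755999825438772632619827674445312514325226402660812631484720437477658996918196678443086791154738922807702430667311143026420917995741277274292954913918919312028458572506319876351651327436556977068335334151560708347790252993025020355069333735094742917080954587259107862184504447428503766749679877959023137920802563395854863730201137421465167437634085027889031396021156550838131577963203587433854613400069813494061505581521992553143471181181186394225335616168880852287049962121533469662361214140431141992362032666220700369645440218531129299534247182378152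
  Q := 103501212322533222273323361896785771601394167098709732837635090598317439170750094130252476604210446304253361843626063052467106268295093165208773865690874409280345155420255190098530636097566469426141467554764707665407734234473509683
  CP := 94971145180789141336542675563993314090139807840141767318029940195648601078112689987051844374457574305722357789993920949337350163371031954685941942121490932986430979073014003263251778132801217195361229942490876696105412848062067567609628558704485882895979778790565845177857390515977024518863177544202834615135021723739396338197823414889377122201016656989553681593778100710015723538268070607273125894982869677810749624246568198673479683600087157713025886097084696440416719016771345217835527677982147249232727190654278562924717209661901039737651200715112783012668642861796619887784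
  CQ := 12338305253193449458667840401082482203488892343523458079926381046529075398500125757867978327232674421378208382625347523528338877069465572230141158469827551483799790030299336883961791084024906240546496662041243299868342170419
  R := 381277150782892006971183315759912112180582071729958667644193411370684955745588827729883875469793895751807297138735393689432710033533951048635684055726762993636547073116322625850465
  W := 94705807912336111519357043578647067457205707391630133412933507944542795396208368745647940771505603183195925382992585790275274910049784653533557155641620644468684875389320690598916360225591626901514182516261479766190811244408985846597090087208160513354986112123599061474149989350948269974665056789039282037610126975502326068533168341794492596796350268028543070825161130957484838826194268687394638011103436203348088147215040451422734354842912058633862230767374100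

/-- the table -/
def tab : Tab A enc.w₀ 192 60 :=
  enc.tab A (by decide +kernel) (by decide +kernel) (fun a => Cfsg.Agent.H996.Eight.Kq.code_eq enc.V 4 a) (by decide +kernel) (Cfsg.Agent.H996.Eight.Kq.act_of (by decide +kernel))
    (Cfsg.Agent.H996.Eight.Kq.t6 (r := fun _ => Fin.ofNat 192 enc.o) (by decide +kernel)) (by decide +kernel) (Cfsg.Agent.H996.Eight.Kq.t5 (by decide +kernel))
    (Cfsg.Agent.H996.Eight.Kq.t6 (r := fun a => enc.crep (enc.cls a)) (by decide +kernel))

/-- a polynomial with its order -/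
def sh (p : ℕ × List ℤ) : List ℤ := Cfsg.Agent.H64.Dl.Sph.pShift p.1 p.2

/-- the exponents of the parameters -/
def e (i : Fin 4) : ℕ := ([1, 1, 2, 2] : List ℕ).getD i 0

def kL : List (ℕ × List ℤ) := (let yq1 : List (ℕ × List ℤ) := (let yq2 : List (ℕ × List ℤ) := (let yq3 : List (ℕ × List ℤ) := (let yq4 : List (ℕ × List ℤ) := %[(24, [1, 0, 1, 0, 1]), (25, [1, 0, 1, 0, 1]), (29, [1]), (30, [1]) | []];
  %[(21, [1, 0, 1, 0, 1]), (22, [1, 0, 1, 0, 1]), (23, [1, 0, 1, 0, 1]), (24, [1, 0, 1, 0, 1]) | yq4]);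
  %[(19, [1]), (19, [1, 0, 2, 0, 2, 0, 1]), (20, [1]), (20, [1, 0, 1, 0, 1]), (20, [1]), (21, [1, 0, 1, 0, 1]), (21, [1]) | yq3]);
  (let yq5 : type_of% yq2 := (let yq6 : type_of% yq2 := %[(17, [1, 0, 1, 0, 1]), (17, [1, 0, 2, 0, 2, 0, 1]), (18, [1, 0, 2, 0, 2, 0, 1]), (18, [1, 0, 2, 0, 2, 0, 1]) | yq2];
  %[(15, [1, 0, 1, 0, 1]), (16, [1, 0, 1, 0, 1]), (16, [1, 0, 1, 0, 1]), (16, [1, 0, 1, 0, 1]) | yq6]);
  %[(12, [1, 0, 2, 0, 2, 0, 1]), (13, [1, 0, 2, 0, 2, 0, 1]), (14, [1, 0, 1, 0, 1]), (14, [1, 0, 1, 0, 1]), (15, [1, 0, 1, 0, 1]), (15, [1, 0, 1, 0, 1]), (15, [1, 0, 1, 0, 1]) | yq5]));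
  (let yq7 : type_of% yq1 := (let yq8 : type_of% yq1 := (let yq9 : type_of% yq1 := %[(11, [1, 0, 1, 0, 1]), (12, [1, 0, 2, 0, 2, 0, 1]), (12, [1, 0, 1, 0, 1]), (12, [1, 0, 1, 0, 1]) | yq1];
  %[(11, [1, 0, 1, 0, 1]), (11, [1]), (11, [1, 0, 2, 0, 2, 0, 1]), (11, [1, 0, 1, 0, 1]) | yq9]);
  %[(10, [1]), (9, [1, 0, 1, 0, 1]), (10, [1, 0, 1, 0, 1]), (10, [1, 0, 1, 0, 1]), (10, [1]), (10, [1, 0, 1, 0, 1]), (11, [1, 0, 1, 0, 1]) | yq8]);
  (let yq10 : type_of% yq7 := (let yq11 : type_of% yq7 := %[(6, [1, 0, 1, 0, 1]), (6, [1, 0, 2, 0, 2, 0, 1]), (7, [1, 0, 2, 0, 2, 0, 1]), (9, [1]) | yq7];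
  %[(5, [1, 0, 1, 0, 1]), (5, [1, 0, 2, 0, 2, 0, 1]), (5, [1, 0, 1, 0, 1]), (6, [1, 0, 2, 0, 2, 0, 1]) | yq11]);
  %[(0, [1]), (1, [1]), (1, [1, 0, 1, 0, 1]), (2, [1, 0, 1, 0, 1]), (2, [1, 0, 1, 0, 1]), (3, [1, 0, 1, 0, 1]), (4, [1, 0, 1, 0, 1]) | yq10])))

def nuL : List (ℕ × List ℤ) := (let yq12 : List (ℕ × List ℤ) := (let yq13 : List (ℕ × List ℤ) := (let yq14 : List (ℕ × List ℤ) := (let yq15 : List (ℕ × List ℤ) := %[(3, [-1, 0, -1, 1]), (2, [1, 0, 1, -1]), (1, [-1, 0, -1, 0, -1]), (0, [1, 0, 1, 0, 1]) | []];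
  %[(5, [-1, 1, 0, 1]), (4, [1, -1, 0, -1]), (4, [1, 0, 1, -1]), (3, [-1, 0, -1, 1]) | yq15]);
  %[(7, [-1, 0, -1, 0, -1]), (5, [-1, 0, -1, 1]), (6, [1, 0, 1, 0, 1]), (6, [1, -1, 0, -1]), (6, [1, 0, 1, 0, 1]), (5, [-1, 1, 0, 1]), (5, [-1, 0, -1, 0, -1]) | yq14]);
  (let yq16 : type_of% yq13 := (let yq17 : type_of% yq13 := %[(6, [1, 1, 1, -1, 0, -1]), (7, [-1, 0, -1, 1]), (6, [1, 0, 1, -1]), (6, [1, 0, 1, -1]) | yq13];
  %[(8, [1, 0, 1, -1]), (7, [-1, -1, -1, 1, 0, 1]), (7, [-1, 0, -1, 1]), (7, [-1, 0, -1, 1]) | yq17]);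
  %[(10, [1, -1, 1]), (9, [-1, 1, -1]), (9, [-1, 0, -1, 1]), (9, [-1, 0, -1, 1]), (8, [1, 0, 1, -1]), (8, [1, 0, 1, -1]), (8, [1, 0, 1, -1]) | yq16]));
  (let yq18 : type_of% yq12 := (let yq19 : type_of% yq12 := (let yq20 : type_of% yq12 := %[(11, [-1, 1, 0, 1]), (10, [1, -1, 1]), (10, [1, -1, 0, -1]), (10, [1, -1, 0, -1]) | yq12];
  %[(11, [-1, 1, 0, 1]), (11, [-1, 0, -1, 0, -1]), (11, [-1, 1, -1]), (11, [-1, 1, 0, 1]) | yq20]);
  %[(12, [1, 0, 1, 0, 1]), (11, [-1, 0, -1, 1, 1, 1]), (12, [1, -1, 0, -1]), (12, [1, -1, 0, -1]), (12, [1, 0, 1, 0, 1]), (10, [1, 0, 1, -1, -1, -1]), (11, [-1, 1, 0, 1]) | yq19]);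
  (let yq21 : type_of% yq18 := (let yq22 : type_of% yq18 := %[(13, [-1, 0, -1, 1]), (13, [-1, 1, 0, 1]), (12, [1, -1, 0, -1]), (13, [-1, 0, -1, 0, -1]) | yq18];
  %[(14, [1, 0, 1, -1]), (14, [1, -1, 0, -1]), (14, [1, 0, 1, -1]), (13, [-1, 1, 0, 1]) | yq22]);
  %[(18, [1, 0, 1, 0, 1]), (17, [-1, 0, -1, 0, -1]), (17, [-1, 1, 0, 1]), (16, [1, -1, 0, -1]), (16, [1, -1, 0, -1]), (15, [-1, 1, 0, 1]), (15, [-1, 0, -1, 1]) | yq21])))

/-- the certificate, a constituent of degree `dn / den` -/
def cert : Cert tab where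
  e := e
  wl := enc.wl
  js := [0, 1]
  kk c := sh (kL.getD c (0, []))
  ff i := ([[1], [1, 0, 1, 0, 1], [1], [1]] : List (List ℤ)).getD i []
  th i := ([[-1], [-1, 1, 0, 1], [], []] : List (List ℤ)).getD i []
  nu c := sh (nuL.getD c (0, []))
  dn := [0, 0, 0, 0, 0, 0, 0, 1, -2, 4, -5, 9, -11, 15, -15, 20, -20, 23, -20, 23, -20, 20, -15, 15, -11, 9, -5, 4, -2, 1]
  den := 3
  ord u := dig 6 2198837039809952413566107190791706529235317843438796895423760802745346192317195511270683560993829210418847808 u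
  nd u := Fin.ofNat 4 (dig 3 218927100718354190684074735721909794424591552910459456 u)
  row u := Fin.ofNat 60 (dig 6 2124261925606934751269682925025432919289127153034002871791776021875960310933593444987047682112475583882723328 u)
  wit u := Fin.ofNat 192 (dig 10 348811549754020609659634504539866240396883231035769301806619646679321537961985759229901010718132667973077411730136903074106726194001868514619731720786526293659691193581294540915712 u)
  wo := by decide +kernel
  ws := by decide +kernel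
  chkK := by (delta clsSum; simp only [Cfsg.Agent.H996.Eight.Kq.pEq_eq]; decide +kernel)
  chkP := by (simp only [Cfsg.Agent.H996.Eight.Kq.pPos_eq]; decide +kernel)
  chkF := by decide +kernel
  chkO := by decide +kernel
  chkE := by (delta clsSum; simp only [Cfsg.Agent.H996.Eight.Kq.pEq_eq]; decide +kernel)
  chkD := by (simp only [Cfsg.Agent.H996.Eight.Kq.pEq_eq, Cfsg.Agent.H996.Eight.Kq.pPos_eq]; decide +kernel)
  chkN := by decide +kernel
  chkU := by (refine Cfsg.Agent.H996.Eight.Kq.chkU_of (cls := tab.cls) (st := tab.st) (ord := fun u => dig 6 2198837039809952413566107190791706529235317843438796895423760802745346192317195511270683560993829210418847808 u) ?_; decide +kernel)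
  chkV := by decide +kernel

def lamL : List (ℕ × List ℤ) := (let yq23 : List (ℕ × List ℤ) := (let yq24 : List (ℕ × List ℤ) := (let yq25 : List (ℕ × List ℤ) := (let yq26 : List (ℕ × List ℤ) := %[(9, [-1, 0, -1, 1]), (9, [1, 0, 1, -1]), (12, [-1]), (12, [1]) | []];
  %[(8, [-1, 1, 0, 1]), (8, [1, -1, 0, -1]), (9, [1, 0, 1, -1]), (9, [-1, 0, -1, 1]) | yq26]);
  %[(8, [-1]), (6, [-1, 0, -2, 1, -1, 1]), (8, [1]), (8, [1, -1, 0, -1]), (8, [1]), (8, [-1, 1, 0, 1]), (8, [-1]) | yq25]);
  (let yq27 : type_of% yq24 := (let yq28 : type_of% yq24 := %[(5, [1, 1, 1, -1, 0, -1]), (6, [-1, 0, -2, 1, -1, 1]), (6, [1, 0, 2, -1, 1, -1]), (6, [1, 0, 2, -1, 1, -1]) | yq24];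
  %[(5, [1, 0, 1, -1]), (5, [-1, -1, -1, 1, 0, 1]), (5, [-1, 0, -1, 1]), (5, [-1, 0, -1, 1]) | yq28]);
  %[(4, [1, -1, 2, -1, 1]), (4, [-1, 1, -2, 1, -1]), (5, [-1, 0, -1, 1]), (5, [-1, 0, -1, 1]), (5, [1, 0, 1, -1]), (5, [1, 0, 1, -1]), (5, [1, 0, 1, -1]) | yq27]));
  (let yq29 : type_of% yq23 := (let yq30 : type_of% yq23 := (let yq31 : type_of% yq23 := %[(4, [-1, 1, 0, 1]), (4, [1, -1, 2, -1, 1]), (4, [1, -1, 0, -1]), (4, [1, -1, 0, -1]) | yq23];
  %[(4, [-1, 1, 0, 1]), (4, [-1]), (4, [-1, 1, -2, 1, -1]), (4, [-1, 1, 0, 1]) | yq31]);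
  %[(4, [1]), (2, [-1, 0, -1, 1, 1, 1]), (4, [1, -1, 0, -1]), (4, [1, -1, 0, -1]), (4, [1]), (2, [1, 0, 1, -1, -1, -1]), (4, [-1, 1, 0, 1]) | yq30]);
  (let yq32 : type_of% yq29 := (let yq33 : type_of% yq29 := %[(1, [-1, 0, -1, 1]), (1, [-1, 1, -1, 2, 0, 1]), (1, [1, -1, 1, -2, 0, -1]), (4, [-1]) | yq29];
  %[(1, [1, 0, 1, -1]), (1, [1, -1, 1, -2, 0, -1]), (1, [1, 0, 1, -1]), (1, [-1, 1, -1, 2, 0, 1]) | yq33]);
  %[(0, [1]), (0, [-1]), (0, [-1, 1, 0, 1]), (0, [1, -1, 0, -1]), (0, [1, -1, 0, -1]), (0, [-1, 1, 0, 1]), (1, [-1, 0, -1, 1]) | yq32])))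

def ggL : List (ℕ × List ℤ) := (let yq34 : List (ℕ × List ℤ) := (let yq35 : List (ℕ × List ℤ) := (let yq36 : List (ℕ × List ℤ) := (let yq37 : List (ℕ × List ℤ) := %[(9, [-1, 1, -2, 3, -3, 3, -3, 3, -3, 3, -3, 3, -3, 3, -3, 2, -2, 1, -1]), (9, [1, -1, 2, -3, 3, -3, 3, -3, 3, -3, 3, -3, 3, -3, 3, -3, 2, -2, 1, -1]), (12, [-1, 1, -1, 1, -1, 1, -1, 1, -1, 1, -1, 1, -1, 1, -1, 1, -1]), (12, [1, -1, 1, -1, 1, -1, 1, -1, 1, -1, 1, -1, 1, -1, 1, -1, 1, -1]) | []];
  %[(8, [-1, 2, -2, 3, -3, 3, -3, 3, -3, 3, -3, 3, -3, 2, -2, 1, -1]), (8, [1, -2, 2, -3, 3, -3, 3, -3, 3, -3, 3, -3, 3, -3, 2, -2, 1, -1]), (9, [1, -1, 2, -3, 3, -3, 3, -3, 3, -3, 3, -3, 3, -3, 2, -2, 1, -1]), (9, [-1, 1, -2, 3, -3, 3, -3, 3, -3, 3, -3, 3, -3, 3, -3, 2, -2, 1, -1]) | yq37]);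
  %[(8, [-1, 1, -1, 1, -1, 1, -1, 1, -1, 1, -1]), (6, [-1, 1, -3, 4, -5, 6, -6, 6, -6, 6, -6, 6, -6, 5, -5, 3, -3, 1, -1]), (8, [1, -1, 1, -1, 1, -1, 1, -1, 1, -1, 1, -1]), (8, [1, -2, 2, -3, 3, -3, 3, -3, 3, -3, 3, -3, 2, -2, 1, -1]), (8, [1, -1, 1, -1, 1, -1, 1, -1, 1, -1, 1, -1]), (8, [-1, 2, -2, 3, -3, 3, -3, 3, -3, 3, -3, 3, -3, 2, -2, 1, -1]), (8, [-1, 1, -1, 1, -1, 1, -1, 1, -1, 1, -1, 1, -1]) | yq36]);
  (let yq38 : type_of% yq35 := (let yq39 : type_of% yq35 := %[(5, [1, 0, 1, -2, 2, -3, 3, -3, 3, -3, 3, -3, 2, -2, 1, -1]), (6, [-1, 1, -3, 4, -5, 6, -6, 6, -6, 6, -6, 5, -5, 3, -3, 1, -1]), (6, [1, -1, 3, -4, 5, -6, 6, -6, 6, -6, 6, -6, 5, -5, 3, -3, 1, -1]), (6, [1, -1, 3, -4, 5, -6, 6, -6, 6, -6, 6, -6, 5, -5, 3, -3, 1, -1]) | yq35];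
  %[(5, [1, -1, 2, -3, 3, -3, 3, -3, 3, -3, 2, -2, 1, -1]), (5, [-1, 0, -1, 2, -2, 3, -3, 3, -3, 3, -3, 2, -2, 1, -1]), (5, [-1, 1, -2, 3, -3, 3, -3, 3, -3, 3, -3, 2, -2, 1, -1]), (5, [-1, 1, -2, 3, -3, 3, -3, 3, -3, 3, -3, 2, -2, 1, -1]) | yq39]);
  %[(4, [1, -2, 4, -5, 6, -6, 6, -6, 5, -5, 3, -3, 1, -1]), (4, [-1, 2, -4, 5, -6, 6, -6, 6, -6, 5, -5, 3, -3, 1, -1]), (5, [-1, 1, -2, 3, -3, 3, -3, 3, -3, 2, -2, 1, -1]), (5, [-1, 1, -2, 3, -3, 3, -3, 3, -3, 2, -2, 1, -1]), (5, [1, -1, 2, -3, 3, -3, 3, -3, 3, -3, 2, -2, 1, -1]), (5, [1, -1, 2, -3, 3, -3, 3, -3, 3, -3, 2, -2, 1, -1]), (5, [1, -1, 2, -3, 3, -3, 3, -3, 3, -3, 2, -2, 1, -1]) | yq38]));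
  (let yq40 : type_of% yq34 := (let yq41 : type_of% yq34 := (let yq42 : type_of% yq34 := %[(4, [-1, 2, -2, 3, -3, 3, -3, 2, -2, 1, -1]), (4, [1, -2, 4, -5, 6, -6, 6, -6, 5, -5, 3, -3, 1, -1]), (4, [1, -2, 2, -3, 3, -3, 3, -3, 2, -2, 1, -1]), (4, [1, -2, 2, -3, 3, -3, 3, -3, 2, -2, 1, -1]) | yq34];
  %[(4, [-1, 2, -2, 3, -3, 3, -3, 2, -2, 1, -1]), (4, [-1, 1, -1, 1, -1, 1, -1]), (4, [-1, 2, -4, 5, -6, 6, -6, 5, -5, 3, -3, 1, -1]), (4, [-1, 2, -2, 3, -3, 3, -3, 2, -2, 1, -1]) | yq42]);
  %[(4, [1, -1, 1, -1, 1, -1]), (2, [-1, 1, -2, 3, -2, 3, -3, 2, -2, 1, -1]), (4, [1, -2, 2, -3, 3, -3, 2, -2, 1, -1]), (4, [1, -2, 2, -3, 3, -3, 2, -2, 1, -1]), (4, [1, -1, 1, -1, 1, -1]), (2, [1, -1, 2, -3, 2, -3, 3, -3, 2, -2, 1, -1]), (4, [-1, 2, -2, 3, -3, 3, -3, 2, -2, 1, -1]) | yq41]);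
  (let yq43 : type_of% yq40 := (let yq44 : type_of% yq40 := %[(1, [-1, 1, -2, 3, -3, 2, -2, 1, -1]), (1, [-1, 2, -3, 5, -5, 5, -5, 3, -3, 1, -1]), (1, [1, -2, 3, -5, 5, -6, 5, -5, 3, -3, 1, -1]), (4, [-1, 1, -1, 1, -1]) | yq40];
  %[(1, [1, -1, 2, -3, 2, -2, 1, -1]), (1, [1, -2, 3, -5, 4, -5, 3, -3, 1, -1]), (1, [1, -1, 2, -3, 2, -2, 1, -1]), (1, [-1, 2, -3, 5, -5, 5, -5, 3, -3, 1, -1]) | yq44]);
  %[(0, []), (0, [-1]), (0, [-1, 1, -1, 1, -1]), (0, [1, -2, 1, -2, 1, -1]), (0, [1, -2, 1, -2, 1, -1]), (0, [-1, 2, -2, 2, -2, 1, -1]), (1, [-1, 1, -2, 2, -2, 1, -1]) | yq43])))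

/-- the eigenvalues are congruent to those of the trivial character -/
def sl : cert.Sl [1, 1] where
  lam c := sh (lamL.getD c (0, []))
  gg c := sh (ggL.getD c (0, []))
  h1 := by (simp only [Cfsg.Agent.H996.Eight.Kq.pEq_eq]; decide +kernel)
  h2 := by (simp only [Cfsg.Agent.H996.Eight.Kq.pEq_eq]; decide +kernel)

end Cfsg.Agent.H423.PQ.CoTabTwEa
end
end

-- part: H423/PQ/CoKill
section
set_option linter.all false
open scoped Cfsg.Agent.FastGrp

-- part: H423/PQ/CoTabE6
section
/-!
# The table of the spherical machine: `E₆`, nodes `0`, `2` (helper423, for S4612; made by a program)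

432 states, 26 classes, one certificate.
-/

set_option autoImplicit false
set_option maxRecDepth 20000
set_option maxHeartbeats 1000000

namespace Cfsg.Agent.H423.PQ.CoTabE6

open Cfsg.Agent.H423.PQ.Co
open Cfsg.Agent.H996.Eight.En (dig)

/-- the Cartan matrix -/
def A (i k : Fin 6) : ℤ := (([[2, 0, -1, 0, 0, 0], [0, 2, 0, -1, 0, 0], [-1, 0, 2, -1, 0, 0], [0, -1, -1, 2, -1, 0], [0, 0, 0, -1, 2, -1], [0, 0, 0, 0, -1, 2]] : List (List ℤ)).getD i []).getD k 0

/-- the encoded table -/
def enc : Enc 6 432 26 where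
  w := [1, 0, 1, 0, 0, 0]
  o := 215
  V := 86461085367385272957344656452578555563638583636248668867278161732560083172724596112405502322764199016289150718032256184821191253456033158659979479782915425486621485363300386314450006309650129447262433217714787778839677386114117794516501262157068196694287338397265658291137148744526065870540416373921441209909309431995313067101041837997321394297770932670959486552726941495470668352850883470778826034754172376039376206634533516131679626212478034940041480350947852709142230547563987503038361785529735004968135716549798569719872278348216591767616382597265044356295926770647384185077748294047784632185515385749579933929676652818296133557098440844060188110148107480912364280567218495404002010728393505185963296397343541004071988796605909943191006755289934366998676371875358327378345384083520291120372487476354978357807289179704851636639767701058054267864297799849790868197192430511273027447433736919549985464554972976363177124323364531313192818014483421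84636671161145371457327113016713994731985751041216898513710023086539395712445749643782021024052322366837537199422627541898346841755275407699985015244933042264776529337108020888656998023164365193109027670111958216241038768500052389835834138487030359432508496780283716771925445425412709632399724967756093869626532348458047510953350381115029905449611625582652876289766871893015920606246892279743161172884069418624204171595898185313173467397170449369800319937818587506570020281310901332530096525313814004674077911881767751478504410019131075557224020484385277486566153054232697047286808692771983175960373854583417229096720738102608985891675387467321538501571337429275960164068772562774117570150384410250658707650956550432732004555364967897292579437470756319670294636133884722767964222501687065255218009569693622197151369937135801647413034889720419082153565716052861927870943103000351834863529987322918428131658519460844274226502719676138908351534666049192391751575403572150187233239494800846418645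059901632837370284914291494448562227645235927646400301500707482517389404819777145987876640918530079497454404042871676012178514777712369919563262933771356300181739614851623462019558693634342728073744839896129055864735915991126104579404733342159729242635949387109930202355566781256676456132147620975552269461196632615843960840366608365463776517846252904326211340297289106660481211749914349708625526206352709931450422195370307627860667382335636508468169379984407140207035211705487189123049332003785319361529553195952803113990241956082597839021073357090941459769170585630211237790079859764409212495697824174164849574030427455769045539437338057646669349329081588283939655271910495342061108779825474910757983908065887036472566504694148698438125754148663506146540521453376956874046582046902782961185143527930633812392242548511305236516538050757812181489789716300996435489569340729235949991206568260673339072335718610401948434159775063598531285937413933067646113100430530826197697980306589879001518688802513932622913414591155502621396292187906909597986094590725040790077712265263415732963583888592179691748054680853761855067389052518588434222573967267430686812342695047050981432261141366936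
  S := 143169219665519397717792885128804156781192807058561755947650208600617634862919321308727426295582266696975993223715570227720962091388367876067205969492316614695035420249786250731092881916613882652558711913752567067109102183786398315035635267857005895802844274795143847596621740008150717919616308647116068016705787385160995446094350139510339706215765635154516300375537849354083847756188398512272489692461391696453208746828028062323001000007359315533946438921614343513108455982339695301855280494181246481631350322902961440773192753217617168994600615026698664992292284024692998018405512929225552541330914814592173432214764287011969920128466294645935970535647615554009771388650890811409590266164315508837900256272771321191411619934029800423529734345526770976199075516006354670425788804480667520162185336021960119994139409781365678463893593705674795173768230055611760653604318110407508746112173988324157317375178778701414502455305826323358063091419680788862312463098333823976308502837648018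78136237932487374472055791087880501946512253111272732697210773803081143602706020768849019357629005501434455559882406201122554527865274787956866221432918077165308487378860955041532373511188662291146319356319538239556143386198845083325902496891894043573725896587282861907571339265549549161687722903668731846733911174968597610222596743757488886697770220138481738253562814632378822124902104161080803965674309008476314661003108153613265384260865118435701268012491918558615891355542371553648719010718923003487121323234597576089540869730201295109212836080515394681710893781772792270686119850270181862862995346152082652185397905548247627702777681607805893996355986850729519543609417833758810381745710911069382850386976506810824731571093026568045244793264767122298295765117888071391240349906490801898082198430997835639192797145409172343172144717439023358525435610496944809495615999091155651189969655328402475009164670318317644507713383248271225290936081101787880932826770189798335175247981836012040556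76458804543475728592194950555329422174519862068802417748727833920411415138863490398416618975535172067687125133066340723069461755185585280900359256617818190976114887723633584368772409971442145510271441629862340352268834473273055657088833128735075602864651100159350404255960751944824653106945873457717414590158927822893295111086211557564769715475374144073210161406989332106510098013745234406611309765140735460523203801164999945145515520564292000326244356360896240007875523133701579178546205011393408375335106057687120660452095554132600624556132453021287939563830220991020532148072605713897927852925581860852999540618557514699476232736191912487487501411883441844854711600762765551708855006958660563989928218404746356671028424253990376656211188048156085616973596232901558218232764211379546381017243886327375143005798937102067160980488672106672537855470124765510951230223979228907809310430621837413655454232811899206616321006746765078514849013803336679663056817034985313216011859109116202336617459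63513119595345145203120055414522692003196870761823118958134530425016025295608628305976004078230091188991924325759362002226405505467092199912429884390819626430292405618306368016766888312466899909018445478000164569592325919856170296520720217670663745415326453483737266710887271752259585158142099059422568309480349645097503979604406764450247300763842175909787655695936287125889455356705894242321450912341751425869799337965438582686744038870537946026444116356821153320310589350767254724088673127696395115885559751933902833492786530858845137222822745318544972545126634152128460757181401769200489387435280754773519470208150554242934161225757222799190148938647101957345844904275756082589076386486982385635526605742037858294063081253705293548836345750745787505782635162289629725609820872863552533392720225441397337816052848402187187199189058796204208253396618906704823709431078418645144842031449982768529341820541658422283949115718449373323532255354677389545456473339739218377247768720227177328581440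19223142712407686053940396777963057771439006712909772079867801205378903096707693671709380667375676027542649054276067501198375044284550932336455044033684261057658171021590669735506448939706819954161454555173847863628973210949806912165723288198593289544541914002111706564017812912639824609892589301320661339681299100760874326586300641056869505458065241440808222265675164345422191407382123782140275875810121397122756782490034457508283012332085381911121607369638014547453630066458053838803776913842019334684594385146026833837596566486104579908755449121212386110675918983683860871550116832149827522301681472689431838964857652095779978467353462548225540645675053269805708444003575103098472525144235968348402468677705190040270429672278916299789648662501403115081192386214507619081829832780989654950214769271002703187350800436270533015217973977132440012749879840019336478553111537315459565006784573574598808273821740087781049475011309599164852104406570361956825722386272906745788687809601999731125969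02029164677057511966181769638805729850605793580761974913379686554578089545860486797303783055543542089945652518383541456132728847195304578493937019264829151635394227095455755931289526369527199977519235944362592474308646656643675580874703326158309253090024555826183825544278021407609912320830600642349561447081039431335334806869547500372483546485865195349230931598167291648113625861122956518404263356348431427229940089686921011659245648351555551530382952574633381848274073044021120973987363643851077564195671389440245862061770151849900426113418224388521924730579858176100924277953299456526710514405560910454753297063196366254386471562795206635568837910217555027999905444671425861285328250977687546060397340390346674259051140693733630464883297920132189759841594524294579569702269708764047282018560403590613862671020887670985280188326036695322224536200274829382993465551972135903113927275532505439721120253068319002924914919130405836503885630314481818493688139316353811314865559531205353199552101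97877916941636177309383270444773517605366065393737571337408177104087377339826651321386183721168700381332836602407382728055566467555011120998995339796615016713943672616248990194771017011259418242634251658134116107091081089884952748278346075071229019672986558542761418991957373875201378626301349417973597628886776432778478142863883080548908750615823169014512802233708356353288738170972699046147834824764157028758849553005313158890726220444804466112139631130623089566329319876384893183305462607030886342988501325136896347303938656379416011671689911501875162764211358445349125293017137095121378677941004769288845842589284495380398997756746774455194270749743215958338961466955570906297498894759202375904110024002271824069481291258173778581990634000853309119712739327971219262918647087876259404954645016743041148475796164652900661739742843228061599722561493130107341516670205357849915342495147876411049798287850058549938344364376836282525387191948560298168646682567792177729150663918556375888194353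11031784993652766363557794315466630057918339812311842175220907159133162191832203424747192956572745282920597479575985325379814159057306848881450988282399640975470513541248173184314820768368503677751657808541678807935618704278713537914208382589697724820284741340329862364153281045634967470506662476763759506550767671617300729256047505205924624058617116643388991125193173813786609488339050865901493408826468944977960519077726748060644165940729443381983352805661953209539952873211807331561476205924362148019808947126713052220496064761686833594875502369788027352956079673505901128198578285522000503316564000852656551254423603176811842832778150825432810027125116684237316665972397630542783887287545977114855257284375061551446241564503782350843378359372996836054411576359528519878021229584451285292602462589360239862468390005003621576020357598689475043350932506716932147200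
  C := 590298945098489564065468789280013129728250312761657118646028266748618439619778341771583854401546841526930620064252145840142503746623390779494875211009530402901670376187715784465862879380982581422588635477799970039321488888292341041659634409465713695392624490882651247690546413677390090723525194794600614010342686385951643706939597142687774295345808270706799247334961380910498621718251577472287136556769786346285157016392800769278969524454719244948367045454709984023724526358374515458958665416077214394855093718427750193185146317193533162449833998902797935110627377167199058910875284386170576782645864686621490392439368218785451433641183833737061647958832888234570974757362402910121406350822377857935715317748045059406036752266245508557093493434780526824504297327743792954102846481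
  P := 11807581385707205545484933196529536633980177229903745280862167637314222590846762463809561962969944624739723582079320839676518618667112220910328830114578262575543795481595041888270179264939336006306507727231255507524161710493070225311368224958958495431856016479009584410497555411118269153718923377375937794031668302232820649083657269343372800714444328588513202939306328437416481034408166492605542198984772510986627819943282799732314543606664319126303907395455496214218564500303645912132747461735361682034225209539960514174069114129615703365135986816345263165528014848182955109266095285875075451556076037298456385007692378346483115655069669514354899320392015972066455052681904853182037240697854277158428859920780501604090762873321314544338981555520467480454945030558024339963416499039323390731263590510780439219346794725246081896880711045130409699000329516735755067510763536754470756813450372354305097813220188634716333835086926892546079534899955239601632004721048269362021344574884817496640252584222962521155418975674532528044149614345083452612310312937046026130035490485971889159776321095317267270197307996802136778519192397105775981804260058521391772159446535236209321471770959966894325405753068769161614514496285219011316475980080835147509799154366073311558161081430039825520084240616859046901075346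
  Q := 2021243381704129675064133794929997255492809806339399969614699112310941283056643771463380712560631588031167363968606926978944600241211839075862841632208403016887131257025354082660854601731382092815191996401880103443232513255321896002368931309473171386707198611678188623447314121356499627360444746947991575697195695665741069291511861464662531585142824840970294601069241998612939065944985437911714381444037891006091491477042938355903725143336121803887350869006243013560282798080840119474098540380480812975922440173901927765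
  CP := 28156652845990372947669191406373104491482956548792281551056691397436414021159756214541173222754360517072662982805741352407433533026885912165746002560606083614116168369837461211056179522671761520550749758957093105965004489578789891128651714754678651776863591676711535607126201682708951156964902767286539951820622546596839803168985442517091122193123461642372224898072331839478995535541384645753701233370804405234595729324587140805168206309762703835060069177981961054711350542234184734702419432623028818297827098554111159998046547461569260310313132032748557784789919619815173644270805254649315664881501035364717485096175032047424065345775052646768935530280786729276694604920000165975818996369202740905619303078336941955991431391083783600395282108364028407441316078644013017150010778252169795103949152123570551355575575489796581266519449944069627794426057076550819807433156705966602099975069607617404616137858262716221700557894592350944618050970390889708945647017083307580337618420234012368166612399545214665118185996679317406203157514338321799014617871400035105670585598571076024300610592740274845568798951474827473181880499776687293502106875622893254950284191021904822432141539403648719134319244724054258803383848699998573785866756649377801607889463153180165898253388462283639743314095377740041715862930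
  CQ := 11820197868639616241574131101764097952741975309470457188823890836296164719742702581617974154856076741061033443024913323795950203079407869606543456123645444639225858979715536098911146944700354333527221588642666777394017127016833872511994070557226181145475956739744950707450333159126113606255731068824429042089054396905635237567222082146175676657607283580737034512619595274753959796024445923998114317476606852239688560475980273181569995336821633655959600970046832818384737205436464816317808883738182548788052128831984981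
  R := 398597830673171278128707409151329725343090294510840695573696000115062491800791
  W := 12564108416271688946351446397768909539507993337483415309791304448690100928756891264484161151829618907870455286471487286776650025603964496429337518021006420895105411384115721042857584945843002993974339153182110925677173476230381951406179038386643765794659969285515133661112832671289602480720014568268627095659925993947689579861422031278136416664418494183247085763927873498771081203357951876734064766490306378631957044375523325890792158960050683013597271718477235931567545993700152084247312854679490612044121577664684074238450974607890549765565832831236511716992647731538602048613267755845684412621011804815415323647667316975020549374484770496551210673147173488397953414099230308645451411046641003267342372171560009050608114314164699457756830542921417750983270929260256562359867602030966047446843875657930875357539824577054866635286599595147891465584682657319014414538802740118177551089035443355610880383943490638046215421429106340040874659920595344018300761968653987775776753912213363004750310113759654486665717442171078899825509546337570576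

/-- the table -/
def tab : Tab A enc.w₀ 432 26 :=
  enc.tab A (by decide +kernel) (by decide +kernel) (fun a => Cfsg.Agent.H996.Eight.Kq.code_eq enc.V 6 a) (by decide +kernel) (Cfsg.Agent.H996.Eight.Kq.act_of (by decide +kernel))
    (Cfsg.Agent.H996.Eight.Kq.t6 (r := fun _ => Fin.ofNat 432 enc.o) (by decide +kernel)) (by decide +kernel) (Cfsg.Agent.H996.Eight.Kq.t5 (by decide +kernel))
    (Cfsg.Agent.H996.Eight.Kq.t6 (r := fun a => enc.crep (enc.cls a)) (by decide +kernel))

/-- a polynomial with its order -/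
def sh (p : ℕ × List ℤ) : List ℤ := Cfsg.Agent.H64.Dl.Sph.pShift p.1 p.2

/-- the exponents of the parameters -/
def e (i : Fin 6) : ℕ := ([1, 1, 1, 1, 1, 1] : List ℕ).getD i 0

def kL : List (ℕ × List ℤ) := [(0, [1]), (1, [1]), (1, [1, 1, 2, 2, 2, 1, 1]), (2, [1, 1, 2, 2, 2, 1, 1]), (2, [1, 1, 2, 2, 2, 1, 1]), (3, [1, 1, 2, 2, 2, 1, 1]), (4, [1, 3, 6, 9, 11, 11, 9, 6, 3, 1]), (6, [1, 1, 1, 1, 1]), (7, [1, 1, 1, 1, 1]), (7, [1, 2, 4, 5, 6, 5, 4, 2, 1]), (7, [1, 1, 1, 1, 1]), (8, [1, 2, 4, 5, 6, 5, 4, 2, 1]), (8, [1, 1, 1, 1, 1]), (8, [1, 2, 4, 5, 6, 5, 4, 2, 1]), (9, [1, 2, 4, 5, 6, 5, 4, 2, 1]), (11, [1, 2, 3, 4, 4, 3, 2, 1]), (11, [1, 2, 3, 4, 4, 3, 2, 1]), (12, [1, 2, 3, 4, 4, 3, 2, 1]), (12, [1, 2, 3, 4, 4, 3, 2, 1]), (13, [1, 1, 1, 1, 1]), (14, [1, 1, 1, 1, 1]), (14, [1, 2, 3, 4, 4, 3, 2, 1]), (15, [1, 2, 3, 4, 4, 3, 2, 1]), (15, [1, 2, 3, 4, 4, 3, 2, 1]), (16, [1, 2, 3, 4, 4, 3, 2, 1]), (19, [1, 2, 3, 4, 4, 3, 2, 1])]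

def nuL : List (ℕ × List ℤ) := [(10, [1, 2, 3, 3, 3, 2, 1]), (9, [-1, -2, -3, -3, -3, -2, -1]), (9, [-1, -1, -1]), (8, [1, 1, 1]), (8, [1, 1, 1]), (7, [-1, -1, -1]), (0, []), (6, [1, 1, 1]), (5, [-1, -1, -1]), (5, [-1]), (5, [-1, -1, -1]), (4, [1]), (4, [1, 1, 1]), (4, [1]), (3, [-1]), (0, []), (0, []), (0, []), (0, []), (1, [-1, -1, -1]), (0, [1, 1, 1]), (0, []), (0, []), (0, []), (0, []), (0, [])]

/-- the certificate, a constituent of degree `dn / den` -/
def cert : Cert tab where
  e := e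
  wl := enc.wl
  js := [0, 2]
  kk c := sh (kL.getD c (0, []))
  ff i := ([[1], [1], [1, 1, 2, 2, 2, 1, 1], [1], [1], [1]] : List (List ℤ)).getD i []
  th i := ([[-1], [], [-1, 0, -1], [], [], []] : List (List ℤ)).getD i []
  nu c := sh (nuL.getD c (0, []))
  dn := [0, 0, 0, 0, 0, 0, 1, 1, 2, 2, 4, 4, 5, 5, 7, 6, 7, 6, 7, 5, 5, 4, 4, 2, 2, 1, 1]
  den := 1
  ord u := dig 6 19120217481912706674012863633027555463346790464 u
  nd u := Fin.ofNat 6 (dig 3 166308997425767908480 u)
  row u := Fin.ofNat 26 (dig 6 36179220088952338506091593262829111307822956544 u)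
  wit u := Fin.ofNat 432 (dig 10 560751923498026330566200415636469923000998298684517027633529554840671443968 u)
  wo := by decide +kernel
  ws := by decide +kernel
  chkK := by (delta clsSum; simp only [Cfsg.Agent.H996.Eight.Kq.pEq_eq]; decide +kernel)
  chkP := by (simp only [Cfsg.Agent.H996.Eight.Kq.pPos_eq]; decide +kernel)
  chkF := by decide +kernel
  chkO := by decide +kernel
  chkE := by (delta clsSum; simp only [Cfsg.Agent.H996.Eight.Kq.pEq_eq]; decide +kernel)
  chkD := by (simp only [Cfsg.Agent.H996.Eight.Kq.pEq_eq, Cfsg.Agent.H996.Eight.Kq.pPos_eq]; decide +kernel)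
  chkN := by decide +kernel
  chkU := by (refine Cfsg.Agent.H996.Eight.Kq.chkU_of (cls := tab.cls) (st := tab.st) (ord := fun u => dig 6 19120217481912706674012863633027555463346790464 u) ?_; decide +kernel)
  chkV := by decide +kernel

def lamL : List (ℕ × List ℤ) := [(0, [1]), (0, [-1]), (0, [-1, 0, -1]), (0, [1, 0, 1]), (0, [1, 0, 1]), (0, [-1, 0, -1]), (0, []), (2, [1]), (2, [-1]), (2, [-1, 0, -1]), (2, [-1]), (2, [1, 0, 1]), (2, [1]), (2, [1, 0, 1]), (2, [-1, 0, -1]), (0, []), (0, []), (0, []), (0, []), (4, [-1]), (4, [1]), (0, []), (0, []), (0, []), (0, []), (0, [])]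

def ggL : List (ℕ × List ℤ) := [(0, []), (0, [-1]), (0, [-1, 0, -2, 0, -2, 0, -1]), (0, [1, -1, 1, -2, 0, -2, 0, -1]), (0, [1, -1, 1, -2, 0, -2, 0, -1]), (0, [-1, 1, -2, 1, -2, 0, -2, 0, -1]), (4, [-1, -2, -4, -5, -6, -5, -4, -2, -1]), (2, [1, -1, 1, -1, 0, -1, 0, -1]), (2, [-1, 1, -1, 1, -1, 0, -1, 0, -1]), (2, [-1, 1, -2, 2, -2, 1, -3, -1, -4, -2, -3, -1, -1]), (2, [-1, 1, -1, 1, -1, 0, -1, 0, -1]), (2, [1, -1, 2, -2, 2, -2, 1, -3, -1, -4, -2, -3, -1, -1]), (2, [1, -1, 1, -1, 1, -1, 0, -1, 0, -1]), (2, [1, -1, 2, -2, 2, -2, 1, -3, -1, -4, -2, -3, -1, -1]), (2, [-1, 1, -2, 2, -2, 2, -2, 1, -3, -1, -4, -2, -3, -1, -1]), (11, [-1, -1, -2, -2, -2, -1, -1]), (11, [-1, -1, -2, -2, -2, -1, -1]), (12, [-1, -1, -2, -2, -2, -1, -1]), (12, [-1, -1, -2, -2, -2, -1, -1]), (4, [-1, 1, -1, 1, -1, 1, -1, 1, -1, 0, -1, 0, -1]), (4, [1, -1, 1, -1, 1, -1, 1, -1, 1, -1, 0, -1, 0, -1]), (14, [-1, -1, -2, -2, -2, -1, -1]), (15, [-1, -1, -2, -2, -2, -1, -1]), (15, [-1, -1, -2, -2, -2, -1, -1]), (16,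 [-1, -1, -2, -2, -2, -1, -1]), (19, [-1, -1, -2, -2, -2, -1, -1])]

/-- the eigenvalues are congruent to those of the trivial character -/
def sl : cert.Sl [1, 1] where
  lam c := sh (lamL.getD c (0, []))
  gg c := sh (ggL.getD c (0, []))
  h1 := by (simp only [Cfsg.Agent.H996.Eight.Kq.pEq_eq]; decide +kernel)
  h2 := by (simp only [Cfsg.Agent.H996.Eight.Kq.pEq_eq]; decide +kernel)

end Cfsg.Agent.H423.PQ.CoTabE6
end

-- part: H423/PQ/CoTabTwEb
section
/-!
# The table of the spherical machine: `²E₆`, nodes `2`, `3` (helper423, for S4612; made by a program)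

192 states, 60 classes, one certificate.
-/

set_option autoImplicit false
set_option maxRecDepth 20000
set_option maxHeartbeats 1000000

namespace Cfsg.Agent.H423.PQ.CoTabTwEb

open Cfsg.Agent.H423.PQ.Co
open Cfsg.Agent.H996.Eight.En (dig)

/-- the Cartan matrix -/
def A (i k : Fin 4) : ℤ := (([[2, -1, 0, 0], [-1, 2, -1, 0], [0, -2, 2, -1], [0, 0, -1, 2]] : List (List ℤ)).getD i []).getD k 0

/-- the encoded table -/
def enc : Enc 4 192 60 where
  w := [0, 0, 1, 1]
  o := 116
  V := 4888454919533478592272503391726804817598137851172942823157754062370591508920768128562235425454324738481180591792913056566432039909485965145229968366393422100095941325867417909496263110587283650902546601012373839812061258776207989903703542061918386880723852653021408398016688454166671945412832465914313413269543085259305121543066007035826495735147476235086897655605140306435533989914049092283760925553419176036369875266559321385265545605297697500007398056793461768226051166366390755188509200354051615550919410850578773916512629758498038261218246912361668654514539648747844786594922335080688238801337413503785723065982384126480963542663473422348362448932529866390145525737443291482241178274184051055874823662367455819430842852351842163339865439080885359159543476415811914009306238307787674925804517744470569538702663572263227766784798538041084245283303452532185817594944210309656984541922366824305607285994182417750003628390824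
  S := 570327100214003300425938820009897027604545652195746347341668254542692592881127905033355527786453431841722928173012373369632516009096924095472813962434603471807247750127239650719877785825544653723636167261647305942019821967223640245210218094607514608735719416000208648751061624158750113690009449973989334216616367098193458320901077792482129977326332591385670764806203197386861950472315702700065099028265635514209701513130445180440094424558651044267189333806795927933329014500451899501452459339223076352160669034740743249022710913060460801547525804437323607078588748232370688922924231685639790197921127425375890764471152159677440032897499736314444105041137505336724372242045013589815142041124787785269129492698691372655377210884473386393640486149913893483385576595580781861931037014818935983284874892274908051005363092583633152539781917567835912603987126788010228875578434692174364675572173262617271625389574212816284764705211013666266720801553080018036002751536535028818258423849047797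730777525451441235441686433739555811947366669004625035486237872385102159527995071533649720364867225842686269884197604738908835232991638026069202848260010059718583579592182461067140303287316569718510557800573570024691873527176418967200912148078081991157701868398666084176270946299922314636607774530552933871233277579248004946876815304622374142651064055862237443823537643432183418750761603219608052040064868359060080143208562598223652278406928286176355864375817613600948368800766382400655102020895785421746888715981325137354216746949727966422799286256555026031519965191428839968091639687478177588923773577634503747519533742852476453020217350185672699260333974121602012559953299272903219536341820380857133081109315251923410611919662162036465362536938956167446650793615632157094506017906657291767917299968319551453471395008778062103187347513928409268147937764745944095013885123830023535367908923443700424542343519638150440751697742372028986280572828000713410960073242428376004858269695483852322042088141287664121308027886813456086129735529222335002943014383575508846223769106106425269925310084229081174097908796821122725044177961356521929740496517610102113400481046072671779922642446566140681263451271811410766043930160914137791003633311109508317870257436129721131663087565528042730353165104416668106942409425415122383996352204800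
  C := 23230966556252980022459288820546394252741772924737530018771079572782297862336150651141581868026142223508340866171419613361967475925467219107356483496956374484691050392135008432852896781377338794730238080205943000292518068099225813767027370581843532104992638704914057543515954852445392352460898228972423557056448421610807358383624497630974382820260
  P := 16988247815592176814244907674361312043632268401792473434349463045350745146567484251922692877029801672853679318921087360553112454037437100676837026511148991563260774868540012106686937813872288900188960267042009452120808081389164749233546941961940712279982226294084883597756855364949200048842793116666853979759021983136529380149423340638665064665606771714674643598338562816566156765246174059725346371941026439558721074162198248416870006685970636393220993942167914556827071985301466609472789346146563634389314187048415186041214277963693116101965035356525558297126824464840214635704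
  Q := 207002412283987063153238267975341522730463431674512766138083561097583723413228253694299238565363722145618893819665011588720283568031879333298130996019543712732699516897913397825665884441136261034452063557600019673335327766665704243
  CP := 17436034758271491601236941251055840956462585059132538792114887462499718528273631499171953533082551091784257988896275338304688859858293106293833611506684827226701774475450984866358076602157214090959562437166635141500051130109682018645654170259348326858738081422936614142675918957246624346841329477351251344334105781456016988877122574245896429310370808019333374016262447719897213111636657546408747077014889798538126615839050478740055174581724473997542036575863971023506934671455698286500962312639026906413061917341591664497470474140228868608827063564164724750158049825616086171647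
  CQ := 97056070337478067196982679798566576631223813527568145855079393693868486367275701107443268568617312416649133714386634425922824487613162433674156865635699746147796828413466233315064347562725234771804902477896012468135218104630312960
  R := 304343193647226057236859851119365726954565516343326873347964480305005848059005441332153242414295082747991299728868713056580013614986868864265811110986079056386763176925449899095156
  W := 141636402258570962053800787459228538771530906165024139933174515054070200598409426999324704117441080739755395086267169875780685833707986924374902480353516324333006985005871639392514504777295777700520389664258587859520576604666755722991370676489042041703126613837030028986347545787086503581522974413503626102779707094143827752694850398035131330485988511281402265340636675623936616019278456633156058977775932566331082001405073581888610747331665150196405946935088658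

/-- the table -/
def tab : Tab A enc.w₀ 192 60 :=
  enc.tab A (by decide +kernel) (by decide +kernel) (fun a => Cfsg.Agent.H996.Eight.Kq.code_eq enc.V 4 a) (by decide +kernel) (Cfsg.Agent.H996.Eight.Kq.act_of (by decide +kernel))
    (Cfsg.Agent.H996.Eight.Kq.t6 (r := fun _ => Fin.ofNat 192 enc.o) (by decide +kernel)) (by decide +kernel) (Cfsg.Agent.H996.Eight.Kq.t5 (by decide +kernel))
    (Cfsg.Agent.H996.Eight.Kq.t6 (r := fun a => enc.crep (enc.cls a)) (by decide +kernel))

/-- a polynomial with its order -/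
def sh (p : ℕ × List ℤ) : List ℤ := Cfsg.Agent.H64.Dl.Sph.pShift p.1 p.2

/-- the exponents of the parameters -/
def e (i : Fin 4) : ℕ := ([1, 1, 2, 2] : List ℕ).getD i 0

def kL : List (ℕ × List ℤ) := (let yq1 : List (ℕ × List ℤ) := (let yq2 : List (ℕ × List ℤ) := (let yq3 : List (ℕ × List ℤ) := (let yq4 : List (ℕ × List ℤ) := %[(27, [1, 1, 1]), (29, [1, 1, 1]), (31, [1]), (33, [1]) | []];
  %[(24, [1]), (25, [1, 1, 1]), (26, [1, 1, 1]), (27, [1, 1, 1]) | yq4]);
  %[(21, [1, 2, 2, 1]), (22, [1]), (22, [1, 1, 1]), (23, [1, 2, 2, 1]), (22, [1]), (24, [1, 1, 1]), (24, [1, 1, 1]) | yq3]);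
  (let yq5 : type_of% yq2 := (let yq6 : type_of% yq2 := %[(20, [1, 1, 1]), (20, [1, 1, 1]), (20, [1]), (21, [1, 2, 2, 1]) | yq2];
  %[(18, [1, 1, 1]), (18, [1, 1, 1]), (19, [1, 2, 2, 1]), (19, [1, 1, 1]) | yq6]);
  %[(15, [1, 1, 1]), (16, [1, 1, 1]), (16, [1, 1, 1]), (17, [1, 2, 2, 1]), (18, [1, 1, 1]), (17, [1, 1, 1]), (18, [1, 1, 1]) | yq5]));
  (let yq7 : type_of% yq1 := (let yq8 : type_of% yq1 := (let yq9 : type_of% yq1 := %[(13, [1, 1, 1]), (15, [1, 2, 2, 1]), (15, [1, 1, 1]), (15, [1, 2, 2, 1]) | yq1];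
  %[(13, [1, 1, 1]), (14, [1, 1, 1]), (13, [1, 1, 1]), (13, [1]) | yq9]);
  %[(11, [1]), (11, [1, 1, 1]), (11, [1, 1, 1]), (12, [1, 1, 1]), (11, [1]), (13, [1, 1, 1]), (13, [1, 2, 2, 1]) | yq8]);
  (let yq10 : type_of% yq7 := (let yq11 : type_of% yq7 := %[(9, [1, 2, 2, 1]), (9, [1, 1, 1]), (9, [1]), (11, [1, 2, 2, 1]) | yq7];
  %[(7, [1, 1, 1]), (7, [1, 2, 2, 1]), (7, [1, 1, 1]), (9, [1, 2, 2, 1]) | yq11]);
  %[(0, [1]), (2, [1, 1, 1]), (2, [1]), (4, [1, 1, 1]), (4, [1, 1, 1]), (5, [1, 1, 1]), (6, [1, 1, 1]) | yq10])))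

def nuL : List (ℕ × List ℤ) := (let yq12 : List (ℕ × List ℤ) := (let yq13 : List (ℕ × List ℤ) := (let yq14 : List (ℕ × List ℤ) := (let yq15 : List (ℕ × List ℤ) := %[(4, [1]), (2, [-1]), (2, [-1]), (0, [1]) | []];
  %[(6, [-1]), (6, [-1]), (4, [1]), (4, [1]) | yq15]);
  %[(8, [1]), (8, [1]), (8, [1]), (6, [-1]), (8, [1]), (6, [-1]), (6, [-1]) | yq14]);
  (let yq16 : type_of% yq13 := (let yq17 : type_of% yq13 := %[(8, [1]), (8, [1]), (10, [-1]), (8, [1]) | yq13];
  %[(10, [-1]), (10, [-1]), (10, [-1]), (10, [-1]) | yq17]);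
  %[(12, [1]), (12, [1]), (12, [1]), (10, [-1]), (10, [-1]), (12, [1]), (10, [-1]) | yq16]));
  (let yq18 : type_of% yq12 := (let yq19 : type_of% yq12 := (let yq20 : type_of% yq12 := %[(14, [-1]), (12, [1]), (12, [1]), (12, [1]) | yq12];
  %[(14, [-1]), (12, [1]), (14, [-1]), (14, [-1]) | yq20]);
  %[(16, [1]), (16, [1]), (16, [1]), (14, [-1]), (16, [1]), (14, [-1]), (14, [-1]) | yq19]);
  (let yq21 : type_of% yq18 := (let yq22 : type_of% yq18 := %[(16, [1]), (16, [1]), (18, [-1]), (14, [-1]) | yq18];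
  %[(18, [-1]), (18, [-1]), (18, [-1]), (16, [1]) | yq22]);
  %[(24, [1]), (22, [-1]), (22, [-1]), (20, [1]), (20, [1]), (20, [1]), (18, [-1]) | yq21])))

/-- the certificate, a constituent of degree `dn / den` -/
def cert : Cert tab where
  e := e
  wl := enc.wl
  js := [2, 3]
  kk c := sh (kL.getD c (0, []))
  ff i := ([[1], [1], [1, 1, 1], [1]] : List (List ℤ)).getD i []
  th i := ([[], [], [-1, -1, -1], [-1]] : List (List ℤ)).getD i []
  nu c := sh (nuL.getD c (0, []))
  dn := (let yq23 : List ℤ := (let yq24 : List ℤ := (let yq25 : List ℤ := %[3, -1, 0, -1, 1 | []];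
  %[3, -4, 1, -1 | yq25]);
  (let yq26 : type_of% yq24 := %[1, -4, 3, 0 | yq24];
  %[0, -1, 3, -1 | yq26]));
  (let yq27 : type_of% yq23 := (let yq28 : type_of% yq23 := %[0, 0, 0, 1, -1 | yq23];
  %[0, 0, 0, 0 | yq28]);
  (let yq29 : type_of% yq27 := %[0, 0, 0, 0 | yq27];
  %[0, 0, 0, 0 | yq29])))
  den := 2
  ord u := dig 6 1601799727164592321152342811545967862174694337964396073943042067942965089792811221119677362158107562137886784 u
  nd u := Fin.ofNat 4 (dig 3 438236681342338559492298600925692255376619214239246032 u)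
  row u := Fin.ofNat 60 (dig 6 2123698078857934630341150146189676251586250163744201545433250733519406731418265573261308773929346394870775808 u)
  wit u := Fin.ofNat 192 (dig 10 202933690107005636309161740138153627706499643228137461444888311746981994099092917286375586980323548350667844889344820451857512275748997463078833755354591088391857115939908192686080 u)
  wo := by decide +kernel
  ws := by decide +kernel
  chkK := by (delta clsSum; simp only [Cfsg.Agent.H996.Eight.Kq.pEq_eq]; decide +kernel)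
  chkP := by (simp only [Cfsg.Agent.H996.Eight.Kq.pPos_eq]; decide +kernel)
  chkF := by decide +kernel
  chkO := by decide +kernel
  chkE := by (delta clsSum; simp only [Cfsg.Agent.H996.Eight.Kq.pEq_eq]; decide +kernel)
  chkD := by (simp only [Cfsg.Agent.H996.Eight.Kq.pEq_eq, Cfsg.Agent.H996.Eight.Kq.pPos_eq]; decide +kernel)
  chkN := by decide +kernel
  chkU := by (refine Cfsg.Agent.H996.Eight.Kq.chkU_of (cls := tab.cls) (st := tab.st) (ord := fun u => dig 6 1601799727164592321152342811545967862174694337964396073943042067942965089792811221119677362158107562137886784 u) ?_; decide +kernel)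
  chkV := by decide +kernel

def lamL : List (ℕ × List ℤ) := (let yq30 : List (ℕ × List ℤ) := (let yq31 : List (ℕ × List ℤ) := (let yq32 : List (ℕ × List ℤ) := (let yq33 : List (ℕ × List ℤ) := %[(7, [1, 1, 1]), (7, [-1, -1, -1]), (9, [-1]), (9, [1]) | []];
  %[(6, [-1]), (7, [-1, -1, -1]), (6, [1, 1, 1]), (7, [1, 1, 1]) | yq33]);
  %[(5, [1, 2, 2, 1]), (6, [1]), (6, [1, 1, 1]), (5, [-1, -2, -2, -1]), (6, [1]), (6, [-1, -1, -1]), (6, [-1, -1, -1]) | yq32]);
  (let yq34 : type_of% yq31 := (let yq35 : type_of% yq31 := %[(4, [1, 1, 1]), (4, [1, 1, 1]), (6, [-1]), (5, [1, 2, 2, 1]) | yq31];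
  %[(4, [-1, -1, -1]), (4, [-1, -1, -1]), (5, [-1, -2, -2, -1]), (5, [-1, -1, -1]) | yq35]);
  %[(3, [1, 1, 1]), (4, [1, 1, 1]), (4, [1, 1, 1]), (3, [-1, -2, -2, -1]), (4, [-1, -1, -1]), (5, [1, 1, 1]), (4, [-1, -1, -1]) | yq34]));
  (let yq36 : type_of% yq30 := (let yq37 : type_of% yq30 := (let yq38 : type_of% yq30 := %[(3, [-1, -1, -1]), (3, [1, 2, 2, 1]), (3, [1, 1, 1]), (3, [1, 2, 2, 1]) | yq30];
  %[(3, [-1, -1, -1]), (2, [1, 1, 1]), (3, [-1, -1, -1]), (3, [-1]) | yq38]);
  %[(3, [1]), (3, [1, 1, 1]), (3, [1, 1, 1]), (2, [-1, -1, -1]), (3, [1]), (3, [-1, -1, -1]), (3, [-1, -2, -2, -1]) | yq37]);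
  (let yq39 : type_of% yq36 := (let yq40 : type_of% yq36 := %[(1, [1, 2, 2, 1]), (1, [1, 1, 1]), (3, [-1]), (1, [-1, -2, -2, -1]) | yq36];
  %[(1, [-1, -1, -1]), (1, [-1, -2, -2, -1]), (1, [-1, -1, -1]), (1, [1, 2, 2, 1]) | yq40]);
  %[(0, [1]), (0, [-1, -1, -1]), (0, [-1]), (0, [1, 1, 1]), (0, [1, 1, 1]), (1, [1, 1, 1]), (0, [-1, -1, -1]) | yq39])))

def ggL : List (ℕ × List ℤ) := (let yq41 : List (ℕ × List ℤ) := (let yq42 : List (ℕ × List ℤ) := (let yq43 : List (ℕ × List ℤ) := (let yq44 : List (ℕ × List ℤ) := %[(7, [1, 1, 0, -1, 0, 1, 0, -1, 0, 1, 0, -1, 0, 1, 0, -1, 0, 1, 0, -1, -1]), (7, [-1, -1, 0, 1, 0, -1, 0, 1, 0, -1, 0, 1, 0, -1, 0, 1, 0, -1, 0, 1, 0, -1, -1]), (9, [-1, 0, 1, 0, -1, 0, 1, 0, -1, 0, 1, 0, -1, 0, 1, 0, -1, 0, 1, 0, -1]), (9, [1, 0, -1, 0, 1, 0, -1, 0, 1, 0, -1, 0, 1, 0, -1, 0, 1, 0, -1, 0, 1, 0, -1]) | []];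
  %[(6, [-1, 0, 1, 0, -1, 0, 1, 0, -1, 0, 1, 0, -1, 0, 1, 0, -1]), (7, [-1, -1, 0, 1, 0, -1, 0, 1, 0, -1, 0, 1, 0, -1, 0, 1, 0, -1, -1]), (6, [1, 1, 0, -1, 0, 1, 0, -1, 0, 1, 0, -1, 0, 1, 0, -1, 0, 1, 0, -1, -1]), (7, [1, 1, 0, -1, 0, 1, 0, -1, 0, 1, 0, -1, 0, 1, 0, -1, 0, 1, 0, -1, -1]) | yq44]);
  %[(5, [1, 2, 1, -1, -1, 1, 1, -1, -1, 1, 1, -1, -1, 1, 1, -1, -2, -1]), (6, [1, 0, -1, 0, 1, 0, -1, 0, 1, 0, -1, 0, 1, 0, -1]), (6, [1, 1, 0, -1, 0, 1, 0, -1, 0, 1, 0, -1, 0, 1, 0, -1, -1]), (5, [-1, -2, -1, 1, 1, -1, -1, 1, 1, -1, -1, 1, 1, -1, -1, 1, 1, -1, -2, -1]), (6, [1, 0, -1, 0, 1, 0, -1, 0, 1, 0, -1, 0, 1, 0, -1]), (6, [-1, -1, 0, 1, 0, -1, 0, 1, 0, -1, 0, 1, 0, -1, 0, 1, 0, -1, -1]), (6, [-1, -1, 0, 1, 0, -1, 0, 1, 0, -1, 0, 1, 0, -1, 0, 1, 0, -1, -1]) | yq43]);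
  (let yq45 : type_of% yq42 := (let yq46 : type_of% yq42 := %[(4, [1, 1, 0, -1, 0, 1, 0, -1, 0, 1, 0, -1, 0, 1, 0, -1, -1]), (4, [1, 1, 0, -1, 0, 1, 0, -1, 0, 1, 0, -1, 0, 1, 0, -1, -1]), (6, [-1, 0, 1, 0, -1, 0, 1, 0, -1, 0, 1, 0, -1]), (5, [1, 2, 1, -1, -1, 1, 1, -1, -1, 1, 1, -1, -1, 1, 1, -1, -2, -1]) | yq42];
  %[(4, [-1, -1, 0, 1, 0, -1, 0, 1, 0, -1, 0, 1, 0, -1, -1]), (4, [-1, -1, 0, 1, 0, -1, 0, 1, 0, -1, 0, 1, 0, -1, -1]), (5, [-1, -2, -1, 1, 1, -1, -1, 1, 1, -1, -1, 1, 1, -1, -2, -1]), (5, [-1, -1, 0, 1, 0, -1, 0, 1, 0, -1, 0, 1, 0, -1, -1]) | yq46]);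
  %[(3, [1, 1, 0, -1, 0, 1, 0, -1, 0, 1, 0, -1, -1]), (4, [1, 1, 0, -1, 0, 1, 0, -1, 0, 1, 0, -1, -1]), (4, [1, 1, 0, -1, 0, 1, 0, -1, 0, 1, 0, -1, -1]), (3, [-1, -2, -1, 1, 1, -1, -1, 1, 1, -1, -1, 1, 1, -1, -2, -1]), (4, [-1, -1, 0, 1, 0, -1, 0, 1, 0, -1, 0, 1, 0, -1, -1]), (5, [1, 1, 0, -1, 0, 1, 0, -1, 0, 1, 0, -1, -1]), (4, [-1, -1, 0, 1, 0, -1, 0, 1, 0, -1, 0, 1, 0, -1, -1]) | yq45]));
  (let yq47 : type_of% yq41 := (let yq48 : type_of% yq41 := (let yq49 : type_of% yq41 := %[(3, [-1, -1, 0, 1, 0, -1, 0, 1, 0, -1, -1]), (3, [1, 2, 1, -1, -1, 1, 1, -1, -1, 1, 1, -1, -2, -1]), (3, [1, 1, 0, -1, 0, 1, 0, -1, 0, 1, 0, -1, -1]), (3, [1, 2, 1, -1, -1, 1, 1, -1, -1, 1, 1, -1, -2, -1]) | yq41];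
  %[(3, [-1, -1, 0, 1, 0, -1, 0, 1, 0, -1, -1]), (2, [1, 1, 0, -1, 0, 1, 0, -1, 0, 1, 0, -1, -1]), (3, [-1, -1, 0, 1, 0, -1, 0, 1, 0, -1, -1]), (3, [-1, 0, 1, 0, -1, 0, 1, 0, -1]) | yq49]);
  %[(3, [1, 0, -1, 0, 1, 0, -1]), (3, [1, 1, 0, -1, 0, 1, 0, -1, -1]), (3, [1, 1, 0, -1, 0, 1, 0, -1, -1]), (2, [-1, -1, 0, 1, 0, -1, 0, 1, 0, -1, -1]), (3, [1, 0, -1, 0, 1, 0, -1]), (3, [-1, -1, 0, 1, 0, -1, 0, 1, 0, -1, -1]), (3, [-1, -2, -1, 1, 1, -1, -1, 1, 1, -1, -2, -1]) | yq48]);
  (let yq50 : type_of% yq47 := (let yq51 : type_of% yq47 := %[(1, [1, 2, 1, -1, -1, 1, 1, -1, -2, -1]), (1, [1, 1, 0, -1, 0, 1, 0, -1, -1]), (3, [-1, 0, 1, 0, -1]), (1, [-1, -2, -1, 1, 1, -1, -1, 1, 1, -1, -2, -1]) | yq47];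
  %[(1, [-1, -1, 0, 1, 0, -1, -1]), (1, [-1, -2, -1, 1, 1, -1, -2, -1]), (1, [-1, -1, 0, 1, 0, -1, -1]), (1, [1, 2, 1, -1, -1, 1, 1, -1, -2, -1]) | yq51]);
  %[(0, []), (0, [-1, -1, -1]), (0, [-1]), (0, [1, 1, 0, -1, -1]), (0, [1, 1, 0, -1, -1]), (1, [1, 1, 0, -1, -1]), (0, [-1, -1, 0, 1, 0, -1, -1]) | yq50])))

/-- the eigenvalues are congruent to those of the trivial character -/
def sl : cert.Sl [1, 0, 1] where
  lam c := sh (lamL.getD c (0, []))
  gg c := sh (ggL.getD c (0, []))
  h1 := by (simp only [Cfsg.Agent.H996.Eight.Kq.pEq_eq]; decide +kernel)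
  h2 := by (simp only [Cfsg.Agent.H996.Eight.Kq.pEq_eq]; decide +kernel)

end Cfsg.Agent.H423.PQ.CoTabTwEb
end

-- part: H423/PQ/CoKill
section
/-!
# S4612: pairs of orders for `E₆(q)` and `²E₆(q)` from parabolic subgroups of corank two (helper423)

* `kill_E6` : `(2, 3)`, `(2, 6)`, `(2, 9)`, `(2, 12)` for `E₆(q)`;
* `kill_TwE_a` : `(2, 3)`, `(2, 6)`, `(2, 8)`, `(2, 10)`, `(2, 12)` for `²E₆(q)`;
* `kill_TwE_b` : `(4, 8)`, `(4, 10)`, `(4, 12)`, `(4, 18)` for `²E₆(q)`.
-/

set_option autoImplicit false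

namespace Cfsg.Agent.H423.PQ

open Cfsg Cfsg.Agent.H967.Sph Cfsg.Agent.H317.PQ
open Cfsg.Agent.H996.Eight.Cert (evZ evZ_cast val val_spec)
open Cfsg.Agent.H64.Dl.Sph (ev)
open CoxeterSystem Cfsg.Agent.ChevalleyStructure.CoxeterGeom Cfsg.Agent.Tits.Roots Cfsg.Agent.Tits.Core
  Cfsg.Agent.Nodes.Reps Cfsg.Agent.Nodes.BNOf Cfsg.Agent.Nodes.Bruhat Cfsg.Agent.Nodes.LeviDec
open Cfsg.Lie Cfsg.Agent.ChevalleyStructure Cfsg.Agent.ChevalleyStructure.CoxeterGeomTypes Cfsg.Agent.Nodes.RGDChev
  Cfsg.Agent.H35.ExcIdx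

universe u

/-! ### arithmetic -/

section Ar

variable {q l : ℕ} [hF : Fact l.Prime] {e : ℕ}

theorem pw_ne (he : ord q l = e) {k : ℕ} (hk : ¬ e ∣ k) : (q : ZMod l) ^ k ≠ 1 := by
  intro h
  apply hk
  rw [← he]
  exact orderOf_dvd_of_pow_eq_one h

theorem pw_eq (he : ord q l = e) : (q : ZMod l) ^ e = 1 := by
  rw [← he]
  exact pow_orderOf_eq_one _

theorem f0 (he : ord q l = e) (h0 : e ≠ 0) : (q : ZMod l) ≠ 0 := by
  intro h
  have h1 := pw_eq he
  rw [h, zero_pow h0] at h1
  exact zero_ne_one h1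

theorem f1 (he : ord q l = e) (h : ¬ e ∣ 1) : (q : ZMod l) - 1 ≠ 0 := fun h1 => pw_ne he h (by linear_combination h1)

theorem f2 (he : ord q l = e) (h : ¬ e ∣ 2) : (q : ZMod l) + 1 ≠ 0 := fun h1 =>
  pw_ne he h (by linear_combination ((q : ZMod l) - 1) * h1)

theorem f3 (he : ord q l = e) (h : ¬ e ∣ 3) : (q : ZMod l) ^ (2:ℕ) + (q : ZMod l) + 1 ≠ 0 := fun h1 =>
  pw_ne he h (by linear_combination ((q : ZMod l) - 1) * h1)

theorem f4 (he : ord q l = e) (h : ¬ e ∣ 4) : (q : ZMod l) ^ (2:ℕ) + 1 ≠ 0 := fun h1 =>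
  pw_ne he h (by linear_combination ((q : ZMod l) ^ (2:ℕ) - 1) * h1)

theorem f5 (he : ord q l = e) (h : ¬ e ∣ 5) :
    (q : ZMod l) ^ (4:ℕ) + (q : ZMod l) ^ (3:ℕ) + (q : ZMod l) ^ (2:ℕ) + (q : ZMod l) + 1 ≠ 0 := fun h1 =>
  pw_ne he h (by linear_combination ((q : ZMod l) - 1) * h1)

theorem f6 (he : ord q l = e) (h : ¬ e ∣ 6) : (q : ZMod l) ^ (2:ℕ) - (q : ZMod l) + 1 ≠ 0 := fun h1 =>
  pw_ne he h (by linear_combination ((q : ZMod l) + 1) * ((q : ZMod l) ^ (3:ℕ) - 1) * h1)

theorem f8 (he : ord q l = e) (h : ¬ e ∣ 8) : (q : ZMod l) ^ (4:ℕ) + 1 ≠ 0 := fun h1 =>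
  pw_ne he h (by linear_combination ((q : ZMod l) ^ (4:ℕ) - 1) * h1)

theorem f9 (he : ord q l = e) (h : ¬ e ∣ 9) : (q : ZMod l) ^ (6:ℕ) + (q : ZMod l) ^ (3:ℕ) + 1 ≠ 0 := fun h1 =>
  pw_ne he h (by linear_combination ((q : ZMod l) ^ (3:ℕ) - 1) * h1)

theorem f10 (he : ord q l = e) (h : ¬ e ∣ 10) :
    (q : ZMod l) ^ (4:ℕ) - (q : ZMod l) ^ (3:ℕ) + (q : ZMod l) ^ (2:ℕ) - (q : ZMod l) + 1 ≠ 0 := fun h1 =>
  pw_ne he h (by linear_combination ((q : ZMod l) + 1) * ((q : ZMod l) ^ (5:ℕ) - 1) * h1)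

theorem f12 (he : ord q l = e) (h : ¬ e ∣ 12) : (q : ZMod l) ^ (4:ℕ) - (q : ZMod l) ^ (2:ℕ) + 1 ≠ 0 := fun h1 =>
  pw_ne he h (by linear_combination ((q : ZMod l) ^ (6:ℕ) - 1) * ((q : ZMod l) ^ (2:ℕ) + 1) * h1)

theorem f18 (he : ord q l = e) (h : ¬ e ∣ 18) : (q : ZMod l) ^ (6:ℕ) - (q : ZMod l) ^ (3:ℕ) + 1 ≠ 0 := fun h1 =>
  pw_ne he h (by linear_combination ((q : ZMod l) ^ (9:ℕ) - 1) * ((q : ZMod l) ^ (3:ℕ) + 1) * h1)

theorem dvd_sub_one (he : ord q l = e) (h0 : e ≠ 0) : e ∣ l - 1 := by
  rw [← he]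
  exact orderOf_dvd_of_pow_eq_one (ZMod.pow_card_sub_one_eq_one (f0 he h0))

theorem ge_of (he : ord q l = e) (h0 : 3 ≤ e) : 5 ≤ l := by
  have h1 := dvd_sub_one he (by omega)
  have h2 := hF.out.two_le
  have h3 := Nat.le_of_dvd (by omega) h1
  have h4 : l ≠ 4 := by
    rintro rfl
    exact absurd hF.out (by norm_num)
  omega

theorem nat_ne {n : ℕ} (h : ¬ l ∣ n) : ((n : ℕ) : ZMod l) ≠ 0 := fun h1 => h ((ZMod.natCast_eq_zero_iff n l).1 h1)

theorem lt_ne {n : ℕ} (h0 : n ≠ 0) (h : n < l) : ((n : ℕ) : ZMod l) ≠ 0 :=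
  nat_ne fun h1 => absurd (Nat.le_of_dvd (Nat.pos_of_ne_zero h0) h1) (by omega)

theorem two_ne (he : ord q l = e) (h0 : 3 ≤ e) : (2 : ZMod l) ≠ 0 := by
  have h := ge_of he h0
  have := lt_ne (l := l) (n := 2) (by norm_num) (by omega)
  exact_mod_cast this

theorem three_ne (he : ord q l = e) (h0 : 3 ≤ e) : (3 : ZMod l) ≠ 0 := by
  have h := ge_of he h0
  have := lt_ne (l := l) (n := 3) (by norm_num) (by omega)
  exact_mod_cast this

theorem root2 (he : ord q l = 2) : (q : ZMod l) + 1 = 0 := by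
  have h : ((q : ZMod l) - 1) * ((q : ZMod l) + 1) = 0 := by linear_combination pw_eq he
  exact (mul_eq_zero.1 h).resolve_left (f1 he (by decide))

theorem root3 (he : ord q l = 3) : (q : ZMod l) ^ (2:ℕ) + (q : ZMod l) + 1 = 0 := by
  have h : ((q : ZMod l) - 1) * ((q : ZMod l) ^ (2:ℕ) + (q : ZMod l) + 1) = 0 := by linear_combination pw_eq he
  exact (mul_eq_zero.1 h).resolve_left (f1 he (by decide))

theorem root4 (he : ord q l = 4) : (q : ZMod l) ^ (2:ℕ) + 1 = 0 := by
  have h : (((q : ZMod l) - 1) * ((q : ZMod l) + 1)) * ((q : ZMod l) ^ (2:ℕ) + 1) = 0 := by linear_combination pw_eq he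
  exact (mul_eq_zero.1 h).resolve_left (mul_ne_zero (f1 he (by decide)) (f2 he (by decide)))

theorem root6 (he : ord q l = 6) : (q : ZMod l) ^ (2:ℕ) - (q : ZMod l) + 1 = 0 := by
  have h : ((((q : ZMod l) - 1) * ((q : ZMod l) ^ (2:ℕ) + (q : ZMod l) + 1)) * ((q : ZMod l) + 1)) *
      ((q : ZMod l) ^ (2:ℕ) - (q : ZMod l) + 1) = 0 := by linear_combination pw_eq he
  exact (mul_eq_zero.1 h).resolve_left
    (mul_ne_zero (mul_ne_zero (f1 he (by decide)) (f3 he (by decide))) (f2 he (by decide)))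

/-- elements of order three -/
theorem g3_6 (he : ord q l = 3) : (q : ZMod l) ^ (2:ℕ) - (q : ZMod l) + 1 ≠ 0 := by
  intro h
  have h1 : (2 : ZMod l) * (q : ZMod l) = 0 := by linear_combination root3 he - h
  rcases mul_eq_zero.1 h1 with h2 | h2
  · exact two_ne he (by norm_num) h2
  · exact f0 he (by norm_num) h2

theorem g3_9 (he : ord q l = 3) : (q : ZMod l) ^ (6:ℕ) + (q : ZMod l) ^ (3:ℕ) + 1 ≠ 0 := by
  intro h
  have h1 : (3 : ZMod l) = 0 := by linear_combination h - ((q : ZMod l) ^ (3:ℕ) + 2) * pw_eq he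
  exact three_ne he (by norm_num) h1

theorem g3_12 (he : ord q l = 3) : (q : ZMod l) ^ (4:ℕ) - (q : ZMod l) ^ (2:ℕ) + 1 ≠ 0 := by
  intro h
  have h1 : (2 : ZMod l) * ((q : ZMod l) + 1) = 0 := by
    linear_combination h - (q : ZMod l) * pw_eq he + root3 he
  rcases mul_eq_zero.1 h1 with h2 | h2
  · exact two_ne he (by norm_num) h2
  · exact f2 he (by decide) h2

/-- elements of order six -/
theorem g6_12 (he : ord q l = 6) : (q : ZMod l) ^ (4:ℕ) - (q : ZMod l) ^ (2:ℕ) + 1 ≠ 0 := by
  intro h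
  have h1 : (2 : ZMod l) * ((q : ZMod l) - 1) = 0 := by
    linear_combination -h + ((q : ZMod l) ^ (2:ℕ) + (q : ZMod l) - 1) * root6 he
  rcases mul_eq_zero.1 h1 with h2 | h2
  · exact two_ne he (by norm_num) h2
  · exact f1 he (by decide) h2

theorem g6_18 (he : ord q l = 6) : (q : ZMod l) ^ (6:ℕ) - (q : ZMod l) ^ (3:ℕ) + 1 ≠ 0 := by
  intro h
  have h1 : (3 : ZMod l) = 0 := by
    linear_combination h - ((q : ZMod l) ^ (3:ℕ) - 2) * ((q : ZMod l) + 1) * root6 he
  exact three_ne he (by norm_num) h1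

theorem fact_le {a d den : ℕ} {U V D : ℤ} (h1 : (a : ℤ) ∣ U * V) (hV : ((V : ℤ) : ZMod l) ≠ 0) (h2 : U ∣ D)
    (h3 : (den : ℤ) * d = D) (hden : (den : ZMod l) ≠ 0) (hd : d ≠ 0) : a.factorization l ≤ d.factorization l := by
  have hl := hF.out
  have hden0 : den ≠ 0 := by
    rintro rfl
    exact hden Nat.cast_zero
  have hV0 : V ≠ 0 := by
    rintro rfl
    exact hV Int.cast_zero
  have hD0 : den * d ≠ 0 := mul_ne_zero hden0 hd
  have h4 : U.natAbs ∣ den * d := by
    have h5 := Int.natAbs_dvd_natAbs.2 h2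
    rwa [← h3, Int.natAbs_mul, Int.natAbs_natCast, Int.natAbs_natCast] at h5
  have hU0 : U.natAbs ≠ 0 := fun h => hD0 (by rw [h] at h4; exact Nat.eq_zero_of_zero_dvd h4)
  have h5 : a ∣ U.natAbs * V.natAbs := by
    have h6 := Int.natAbs_dvd_natAbs.2 h1
    rwa [Int.natAbs_mul, Int.natAbs_natCast] at h6
  have hVn : V.natAbs ≠ 0 := Int.natAbs_ne_zero.2 hV0
  have h6 := (Nat.factorization_le_iff_dvd (fun h => by
    rw [h] at h5
    exact mul_ne_zero hU0 hVn (Nat.eq_zero_of_zero_dvd h5)) (mul_ne_zero hU0 hVn)).2 h5 l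
  have h7 := (Nat.factorization_le_iff_dvd hU0 hD0).2 h4 l
  rw [Nat.factorization_mul hU0 hVn, Finsupp.add_apply] at h6
  rw [Nat.factorization_mul hden0 hd, Finsupp.add_apply] at h7
  have h8 : V.natAbs.factorization l = 0 := by
    apply Nat.factorization_eq_zero_of_not_dvd
    intro h
    apply hV
    rw [ZMod.intCast_zmod_eq_zero_iff_dvd]
    exact Int.natCast_dvd.2 h
  have h9 : den.factorization l = 0 := by
    apply Nat.factorization_eq_zero_of_not_dvd
    intro h
    exact hden ((ZMod.natCast_eq_zero_iff _ _).2 h)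
  omega

end Ar

/-! ### the groups -/

theorem degZ {I : Type*} [Fintype I] [DecidableEq I] {A : I → I → ℤ} {ω₀ : I → ℤ} {N m : ℕ} {t : Co.Tab A ω₀ N m} (C : Co.Cert t)
    {x : ℕ} (hx : 2 ≤ x) : (C.den : ℤ) * (val C.den C.dn x : ℕ) = evZ x C.dn ∧ val C.den C.dn x ≠ 0 := by
  have hx' : (2 : ℚ) ≤ (x : ℚ) := by exact_mod_cast hx
  obtain ⟨h1, h2, h3, -⟩ := C.chkD
  have h4 := val_spec h2 h3 h1 hx
  have h5 := evZ_cast (x : ℤ) C.dn
  push_cast at h5
  constructor
  · rw [← h5] at h4
    exact_mod_cast h4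
  · intro h6
    rw [h6, Nat.cast_zero, mul_zero] at h4
    exact (Cfsg.Agent.H996.Eight.Cert.ev_pos hx' h1).ne h4

/-- the exclusion for an equal Cartan matrix -/
theorem not_same_eq {l : ℕ} [NeZero l] {W : Type*} {Y : Type u} [Group W] [Finite W] [Group Y] [Finite Y]
    {M : CoxeterMatrix (Fin l)} {cs : CoxeterSystem M W} {A A' : Fin l → Fin l → ℤ} {h : IsCartan M A} {p : ℕ}
    {T : Subgroup Y} {n : Fin l → Y} {X : (Fin l → ℤ) → Subgroup Y} (R : RGD cs h p T n X) (hG : GG cs h T X = ⊤)
    (hA : A = A') {ω₀ : Fin l → ℤ} {N m : ℕ} {t : Co.Tab A' ω₀ N m} (C : Co.Cert t) {x : ℕ} (hx : 2 ≤ x)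
    (hq : ∀ i, Nat.card (X (sr i)) = x ^ C.e i) {ph : List ℤ} (L : C.Sl ph)
    {p' l' : ℕ} (hp : p'.Prime) (hl : l'.Prime) (hd : (p' : ℤ) ∣ evZ x ph) (hlG : l' ∣ Nat.card Y)
    (hdeg : (Nat.card Y).factorization l' ≤ (val C.den C.dn x).factorization l') : ¬ Same p' l' Y := by
  subst hA
  exact C.not_same R hG hx hq L hp hl hd hlG hdeg

/-- **split groups** -/
theorem split_not_same {D : ChevalleyDatum} {l : ℕ} [NeZero l] {M : CoxeterMatrix (Fin l)} (hp : IsType D l M)
    (K : Type u) [Field K] [Fintype K] {A' : Fin l → Fin l → ℤ} (hA : cartanOf D l = A') {ω₀ : Fin l → ℤ} {N m : ℕ}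
    {t : Co.Tab A' ω₀ N m} (C : Co.Cert t) (he : ∀ i, C.e i = 1) {ph : List ℤ} (L : C.Sl ph) {p' l' : ℕ}
    (hp' : p'.Prime) (hl' : l'.Prime) (hd : (p' : ℤ) ∣ evZ (Fintype.card K : ℕ) ph)
    (hlG : l' ∣ Nat.card ↥(D.group K))
    (hdeg : (Nat.card ↥(D.group K)).factorization l' ≤ (val C.den C.dn (Fintype.card K)).factorization l') :
    ¬ Same p' l' ↥(D.group K) := by
  obtain ⟨r, hr⟩ := CharP.exists K
  have : Fact r.Prime := ⟨CharP.char_is_prime K r⟩
  have := finite_W hp M.toCoxeterSystem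
  have := H996.PQ.finite_group D K
  refine not_same_eq (rgd (K := K) hp M.toCoxeterSystem r) (GG_eq_top hp K M.toCoxeterSystem) hA C
    Fintype.one_lt_card (fun i => ?_) L hp' hl' hd hlG hdeg
  rw [card_XX hp K M.toCoxeterSystem (isRoot_sr _ _ i), he, pow_one, Nat.card_eq_fintype_card]

theorem exists_prime_pow' (F : Type u) [Field F] [Fintype F] :
    ∃ (r f : ℕ), r.Prime ∧ f ≠ 0 ∧ Fintype.card F = r ^ f ∧ CharP F r := by
  obtain ⟨r, hr⟩ := CharP.exists F
  obtain ⟨f, hp, hf⟩ := FiniteField.card F r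
  exact ⟨r, f, hp, f.ne_zero, hf, hr⟩

/-- **`²E₆`** -/
theorem tw_not_same {A' : Fin 4 → Fin 4 → ℤ} (hA : Nodes.RGDTwE6.A = A') {ω₀ : Fin 4 → ℤ} {N m : ℕ}
    {t : Co.Tab A' ω₀ N m} (C : Co.Cert t) (he : ∀ i, C.e i = (![1, 1, 2, 2] : Fin 4 → ℕ) i) {ph : List ℤ}
    (L : C.Sl ph) {K : Type u} [Field K] [Fintype K] {x : ℕ} (hq : IsPrimePow x) (hK : Fintype.card K = x ^ (2:ℕ))
    {p' l' : ℕ} (hp' : p'.Prime) (hl' : l'.Prime) (hd : (p' : ℤ) ∣ evZ x ph)
    (hlG : l' ∣ Nat.card ↥(twistedE6 K x))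
    (hdeg : (Nat.card ↥(twistedE6 K x)).factorization l' ≤ (val C.den C.dn x).factorization l') :
    ¬ Same p' l' ↥(twistedE6 K x) := by
  obtain ⟨r, f, hr, hf, hqf⟩ := (isPrimePow_nat_iff x).1 hq
  have hch : CharP K r := by
    obtain ⟨r', g, hr', hg, hK', hch⟩ := exists_prime_pow' K
    have h1 : r' = r := by
      have h2 : r' ∣ r ^ (f * 2) := by
        rw [pow_mul, hqf, ← hK, hK']
        exact dvd_pow_self _ hg
      exact (Nat.prime_dvd_prime_iff_eq hr' hr).1 (hr'.dvd_of_dvd_pow h2)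
    rwa [h1] at hch
  have : Fact r.Prime := ⟨hr⟩
  obtain ⟨φ, hφ, hqq⟩ := Cfsg.Agent.ChevalleyStructure.TwE6Basic.exists_frob hq hK
  have : Finite ↥(twistedE6 K x) := by
    have : Finite (GL chevE6.Idx K) := by
      have : Finite (Matrix chevE6.Idx chevE6.Idx K) := inferInstance
      infer_instance
    infer_instance
  have D := data_TwE6_2 hr hf.ne' hqf.symm hφ hqq hK
  have := D.fin
  have h2 : 2 ≤ x := hq.two_le
  have hsz : ∀ i, Nat.card (Nodes.RGDTwE6.X φ x (sr i)) = x ^ (![1, 1, 2, 2] : Fin 4 → ℕ) i := by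
    intro i
    rw [D.size i]
    fin_cases i
    · exact (pow_one x).symm
    · exact (pow_one x).symm
    · rfl
    · rfl
  exact not_same_eq D.rgd D.gg hA C h2 (fun i => by rw [hsz, he]) L hp' hl' hd hlG hdeg

/-! ### `E₆(q)` -/

theorem hA_E6 : cartanOf chevE6 6 = CoTabE6.A := by
  funext i k
  revert i k
  decide +kernel

theorem evdn_E6 (x : ℤ) : evZ x CoTabE6.cert.dn = x ^ (6:ℕ) * (x ^ (2:ℕ) + x + 1) ^ (3:ℕ) * (x ^ (2:ℕ) - x + 1) ^ (2:ℕ) *
    (x ^ (6:ℕ) + x ^ (3:ℕ) + 1) * (x ^ (4:ℕ) - x ^ (2:ℕ) + 1) :=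
  Cfsg.Agent.H996.Eight.Kq.ev_of (by decide +kernel)

theorem card_E6 (K : Type u) [Field K] [Fintype K] {q : ℕ} (hq : Fintype.card K = q) :
    (Nat.card ↥(chevE6.group K) : ℤ) ∣ (q : ℤ) ^ (36:ℕ) * ((q : ℤ) ^ (2:ℕ) - 1) * ((q : ℤ) ^ (5:ℕ) - 1) * ((q : ℤ) ^ (6:ℕ) - 1) *
      ((q : ℤ) ^ (8:ℕ) - 1) * ((q : ℤ) ^ (9:ℕ) - 1) * ((q : ℤ) ^ (12:ℕ) - 1) := by
  have h := S1063.result hq
  have h1 : 1 ≤ q := by
    rw [← hq]
    exact Fintype.card_pos
  have h2 : ∀ k : ℕ, ((q ^ k - 1 : ℕ) : ℤ) = (q : ℤ) ^ k - 1 := fun k => by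
    rw [Nat.cast_sub (Nat.one_le_pow _ _ h1)]
    push_cast
    ring
  refine ⟨(Nat.gcd 3 (q - 1) : ℕ), ?_⟩
  rw [← h2, ← h2, ← h2, ← h2, ← h2, ← h2, mul_comm (Nat.card ↥(chevE6.group K) : ℤ)]
  exact_mod_cast h.symm

theorem ph2 {q p : ℕ} [Fact p.Prime] (h : ord q p = 2) : (p : ℤ) ∣ evZ (q : ℕ) [1, 1] := by
  rw [← ZMod.intCast_zmod_eq_zero_iff_dvd]
  simp only [evZ]
  push_cast
  linear_combination root2 h

theorem ph4 {q p : ℕ} [Fact p.Prime] (h : ord q p = 4) : (p : ℤ) ∣ evZ (q : ℕ) [1, 0, 1] := by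
  rw [← ZMod.intCast_zmod_eq_zero_iff_dvd]
  simp only [evZ]
  push_cast
  linear_combination root4 h

/-- **`E₆(q)`: the pairs of orders `(2, 3)`, `(2, 6)`, `(2, 9)`, `(2, 12)`.** -/
theorem kill_E6 (K : Type u) [Field K] [Fintype K] : ∀ f ∈ [3, 6, 9, 12],
    Kill ↥(chevE6.group K) (Fintype.card K) 2 f := by
  intro f hf p l hp hl hp2 hl2 hpl hpG hlG hpe hlf
  have : Fact p.Prime := ⟨hp⟩
  have : Fact l.Prime := ⟨hl⟩
  obtain ⟨q, hq⟩ : ∃ q, q = Fintype.card K := ⟨_, rfl⟩
  have hq2 : 2 ≤ q := by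
    rw [hq]
    exact Fintype.one_lt_card
  have hc := card_E6 K hq.symm
  obtain ⟨h1, h2⟩ := degZ CoTabE6.cert hq2
  rw [evdn_E6] at h1
  have hden : ((CoTabE6.cert.den : ℕ) : ZMod l) ≠ 0 := by
    show ((1 : ℕ) : ZMod l) ≠ 0
    rw [Nat.cast_one]
    exact one_ne_zero
  rw [← hq] at hlf
  refine split_not_same hpE6 K hA_E6 CoTabE6.cert (by decide +kernel) CoTabE6.sl hp hl (ph2 hpe) hlG ?_
  rw [← hq]
  simp only [List.mem_cons, List.not_mem_nil, or_false] at hf
  rcases hf with rfl | rfl | rfl | rfl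
  · refine fact_le (l := l) (U := ((q : ℤ) ^ (2:ℕ) + q + 1) ^ (3:ℕ)) (V := (q : ℤ) ^ (36:ℕ) * ((q : ℤ) - 1) ^ (6:ℕ) * ((q : ℤ) + 1) ^ (4:ℕ) *
      ((q : ℤ) ^ (2:ℕ) + 1) ^ (2:ℕ) * ((q : ℤ) ^ (4:ℕ) + (q : ℤ) ^ (3:ℕ) + (q : ℤ) ^ (2:ℕ) + (q : ℤ) + 1) * ((q : ℤ) ^ (2:ℕ) - q + 1) ^ (2:ℕ) *
      ((q : ℤ) ^ (4:ℕ) + 1) * ((q : ℤ) ^ (6:ℕ) + (q : ℤ) ^ (3:ℕ) + 1) * ((q : ℤ) ^ (4:ℕ) - (q : ℤ) ^ (2:ℕ) + 1)) ?_ ?_ ?_ h1 hden h2
    · refine hc.trans (dvd_of_eq ?_)
      exact Cfsg.Agent.H996.Eight.Kq.eq_of (q : ℤ) (by decide +kernel)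
    · simp only [Int.cast_mul, Int.cast_pow, Int.cast_add, Int.cast_sub, Int.cast_one, Int.cast_natCast]
      exact mul_ne_zero (mul_ne_zero (mul_ne_zero (mul_ne_zero (mul_ne_zero (mul_ne_zero (mul_ne_zero (mul_ne_zero
        (pow_ne_zero _ (f0 hlf (by decide))) (pow_ne_zero _ (f1 hlf (by decide)))) (pow_ne_zero _ (f2 hlf (by decide))))
        (pow_ne_zero _ (f4 hlf (by decide)))) (f5 hlf (by decide))) (pow_ne_zero _ (g3_6 hlf))) (f8 hlf (by decide)))
        (g3_9 hlf)) (g3_12 hlf)
    · exact ⟨(q : ℤ) ^ (6:ℕ) * ((q : ℤ) ^ (2:ℕ) - q + 1) ^ (2:ℕ) * ((q : ℤ) ^ (6:ℕ) + (q : ℤ) ^ (3:ℕ) + 1) *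
        ((q : ℤ) ^ (4:ℕ) - (q : ℤ) ^ (2:ℕ) + 1), Cfsg.Agent.H996.Eight.Kq.eq_of (q : ℤ) (by decide +kernel)⟩
  · refine fact_le (l := l) (U := ((q : ℤ) ^ (2:ℕ) - q + 1) ^ (2:ℕ)) (V := (q : ℤ) ^ (36:ℕ) * ((q : ℤ) - 1) ^ (6:ℕ) * ((q : ℤ) + 1) ^ (4:ℕ) *
      ((q : ℤ) ^ (2:ℕ) + 1) ^ (2:ℕ) * ((q : ℤ) ^ (4:ℕ) + (q : ℤ) ^ (3:ℕ) + (q : ℤ) ^ (2:ℕ) + (q : ℤ) + 1) * ((q : ℤ) ^ (2:ℕ) + q + 1) ^ (3:ℕ) *
      ((q : ℤ) ^ (4:ℕ) + 1) * ((q : ℤ) ^ (6:ℕ) + (q : ℤ) ^ (3:ℕ) + 1) * ((q : ℤ) ^ (4:ℕ) - (q : ℤ) ^ (2:ℕ) + 1)) ?_ ?_ ?_ h1 hden h2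
    · refine hc.trans (dvd_of_eq ?_)
      exact Cfsg.Agent.H996.Eight.Kq.eq_of (q : ℤ) (by decide +kernel)
    · simp only [Int.cast_mul, Int.cast_pow, Int.cast_add, Int.cast_sub, Int.cast_one, Int.cast_natCast]
      exact mul_ne_zero (mul_ne_zero (mul_ne_zero (mul_ne_zero (mul_ne_zero (mul_ne_zero (mul_ne_zero (mul_ne_zero
        (pow_ne_zero _ (f0 hlf (by decide))) (pow_ne_zero _ (f1 hlf (by decide)))) (pow_ne_zero _ (f2 hlf (by decide))))
        (pow_ne_zero _ (f4 hlf (by decide)))) (f5 hlf (by decide))) (pow_ne_zero _ (f3 hlf (by decide))))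
        (f8 hlf (by decide))) (f9 hlf (by decide))) (g6_12 hlf)
    · exact ⟨(q : ℤ) ^ (6:ℕ) * ((q : ℤ) ^ (2:ℕ) + q + 1) ^ (3:ℕ) * ((q : ℤ) ^ (6:ℕ) + (q : ℤ) ^ (3:ℕ) + 1) *
        ((q : ℤ) ^ (4:ℕ) - (q : ℤ) ^ (2:ℕ) + 1), Cfsg.Agent.H996.Eight.Kq.eq_of (q : ℤ) (by decide +kernel)⟩
  · refine fact_le (l := l) (U := (q : ℤ) ^ (6:ℕ) + (q : ℤ) ^ (3:ℕ) + 1) (V := (q : ℤ) ^ (36:ℕ) * ((q : ℤ) - 1) ^ (6:ℕ) * ((q : ℤ) + 1) ^ (4:ℕ) *
      ((q : ℤ) ^ (2:ℕ) + 1) ^ (2:ℕ) * ((q : ℤ) ^ (4:ℕ) + (q : ℤ) ^ (3:ℕ) + (q : ℤ) ^ (2:ℕ) + (q : ℤ) + 1) * ((q : ℤ) ^ (2:ℕ) + q + 1) ^ (3:ℕ) *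
      ((q : ℤ) ^ (4:ℕ) + 1) * ((q : ℤ) ^ (2:ℕ) - q + 1) ^ (2:ℕ) * ((q : ℤ) ^ (4:ℕ) - (q : ℤ) ^ (2:ℕ) + 1)) ?_ ?_ ?_ h1 hden h2
    · refine hc.trans (dvd_of_eq ?_)
      exact Cfsg.Agent.H996.Eight.Kq.eq_of (q : ℤ) (by decide +kernel)
    · simp only [Int.cast_mul, Int.cast_pow, Int.cast_add, Int.cast_sub, Int.cast_one, Int.cast_natCast]
      exact mul_ne_zero (mul_ne_zero (mul_ne_zero (mul_ne_zero (mul_ne_zero (mul_ne_zero (mul_ne_zero (mul_ne_zero
        (pow_ne_zero _ (f0 hlf (by decide))) (pow_ne_zero _ (f1 hlf (by decide)))) (pow_ne_zero _ (f2 hlf (by decide))))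
        (pow_ne_zero _ (f4 hlf (by decide)))) (f5 hlf (by decide))) (pow_ne_zero _ (f3 hlf (by decide))))
        (f8 hlf (by decide))) (pow_ne_zero _ (f6 hlf (by decide)))) (f12 hlf (by decide))
    · exact ⟨(q : ℤ) ^ (6:ℕ) * ((q : ℤ) ^ (2:ℕ) + q + 1) ^ (3:ℕ) * ((q : ℤ) ^ (2:ℕ) - q + 1) ^ (2:ℕ) *
        ((q : ℤ) ^ (4:ℕ) - (q : ℤ) ^ (2:ℕ) + 1), Cfsg.Agent.H996.Eight.Kq.eq_of (q : ℤ) (by decide +kernel)⟩
  · refine fact_le (l := l) (U := (q : ℤ) ^ (4:ℕ) - (q : ℤ) ^ (2:ℕ) + 1) (V := (q : ℤ) ^ (36:ℕ) * ((q : ℤ) - 1) ^ (6:ℕ) * ((q : ℤ) + 1) ^ (4:ℕ) *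
      ((q : ℤ) ^ (2:ℕ) + 1) ^ (2:ℕ) * ((q : ℤ) ^ (4:ℕ) + (q : ℤ) ^ (3:ℕ) + (q : ℤ) ^ (2:ℕ) + (q : ℤ) + 1) * ((q : ℤ) ^ (2:ℕ) + q + 1) ^ (3:ℕ) *
      ((q : ℤ) ^ (4:ℕ) + 1) * ((q : ℤ) ^ (2:ℕ) - q + 1) ^ (2:ℕ) * ((q : ℤ) ^ (6:ℕ) + (q : ℤ) ^ (3:ℕ) + 1)) ?_ ?_ ?_ h1 hden h2
    · refine hc.trans (dvd_of_eq ?_)
      exact Cfsg.Agent.H996.Eight.Kq.eq_of (q : ℤ) (by decide +kernel)
    · simp only [Int.cast_mul, Int.cast_pow, Int.cast_add, Int.cast_sub, Int.cast_one, Int.cast_natCast]
      exact mul_ne_zero (mul_ne_zero (mul_ne_zero (mul_ne_zero (mul_ne_zero (mul_ne_zero (mul_ne_zero (mul_ne_zero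
        (pow_ne_zero _ (f0 hlf (by decide))) (pow_ne_zero _ (f1 hlf (by decide)))) (pow_ne_zero _ (f2 hlf (by decide))))
        (pow_ne_zero _ (f4 hlf (by decide)))) (f5 hlf (by decide))) (pow_ne_zero _ (f3 hlf (by decide))))
        (f8 hlf (by decide))) (pow_ne_zero _ (f6 hlf (by decide)))) (f9 hlf (by decide))
    · exact ⟨(q : ℤ) ^ (6:ℕ) * ((q : ℤ) ^ (2:ℕ) + q + 1) ^ (3:ℕ) * ((q : ℤ) ^ (2:ℕ) - q + 1) ^ (2:ℕ) *
        ((q : ℤ) ^ (6:ℕ) + (q : ℤ) ^ (3:ℕ) + 1), Cfsg.Agent.H996.Eight.Kq.eq_of (q : ℤ) (by decide +kernel)⟩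

/-! ### `²E₆(q)` -/

theorem hA_TwE_a : Nodes.RGDTwE6.A = CoTabTwEa.A := by
  funext i k
  revert i k
  decide +kernel

theorem hA_TwE_b : Nodes.RGDTwE6.A = CoTabTwEb.A := by
  funext i k
  revert i k
  decide +kernel

/-- elements of order three -/
theorem g3_18 {q l : ℕ} [hF : Fact l.Prime] (he : ord q l = 3) : (q : ZMod l) ^ (6:ℕ) - (q : ZMod l) ^ (3:ℕ) + 1 ≠ 0 := by
  intro h
  have h1 : (1 : ZMod l) = 0 := by linear_combination h - ((q : ZMod l) ^ (3:ℕ)) * pw_eq he
  exact one_ne_zero h1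

theorem card_TwE {K : Type u} [Field K] [Fintype K] {q : ℕ} (hq : IsPrimePow q) (hK : Fintype.card K = q ^ (2:ℕ)) :
    (Nat.card ↥(twistedE6 K q) : ℤ) ∣ (q : ℤ) ^ (36:ℕ) * ((q : ℤ) ^ (2:ℕ) - 1) * ((q : ℤ) ^ (5:ℕ) + 1) * ((q : ℤ) ^ (6:ℕ) - 1) *
      ((q : ℤ) ^ (8:ℕ) - 1) * ((q : ℤ) ^ (9:ℕ) + 1) * ((q : ℤ) ^ (12:ℕ) - 1) := by
  have h := S1066.result hq hK
  have h1 : 1 ≤ q := hq.pos
  have h2 : ∀ k : ℕ, ((q ^ k - 1 : ℕ) : ℤ) = (q : ℤ) ^ k - 1 := fun k => by
    rw [Nat.cast_sub (Nat.one_le_pow _ _ h1)]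
    push_cast
    ring
  refine ⟨(Nat.gcd 3 (q + 1) : ℕ), ?_⟩
  rw [← h2, ← h2, ← h2, ← h2, mul_comm (Nat.card ↥(twistedE6 K q) : ℤ)]
  exact_mod_cast h.symm

theorem evdn_TwE_a (x : ℤ) : evZ x CoTabTwEa.cert.dn = x ^ (7:ℕ) * (x ^ (2:ℕ) + x + 1) ^ (2:ℕ) * (x ^ (2:ℕ) - x + 1) ^ (3:ℕ) * (x ^ (4:ℕ) + 1) * (x ^ (4:ℕ) - x ^ (3:ℕ) + x ^ (2:ℕ) - x + 1) * (x ^ (4:ℕ) - x ^ (2:ℕ) + 1) :=
  Cfsg.Agent.H996.Eight.Kq.ev_of (by decide +kernel)

/-- **`²E₆(q)`: the pairs of orders `(2, f)`.** -/
theorem kill_TwE_a {K : Type u} [Field K] [Fintype K] {q : ℕ} (hq : IsPrimePow q) (hK : Fintype.card K = q ^ (2:ℕ)) :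
    ∀ f ∈ [3, 6, 8, 10, 12], Kill ↥(twistedE6 K q) q 2 f := by
  intro f hf p l hp hl hp2 hl2 hpl hpG hlG hpe hlf
  have : Fact p.Prime := ⟨hp⟩
  have : Fact l.Prime := ⟨hl⟩
  have hq2 : 2 ≤ q := hq.two_le
  have hc := card_TwE hq hK
  obtain ⟨h1, h2⟩ := degZ CoTabTwEa.cert hq2
  rw [evdn_TwE_a] at h1
  simp only [List.mem_cons, List.not_mem_nil, or_false] at hf
  have hf3 : 3 ≤ f := by
    rcases hf with rfl | rfl | rfl | rfl | rfl <;> norm_num
  have hden : ((CoTabTwEa.cert.den : ℕ) : ZMod l) ≠ 0 := by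
    show ((3 : ℕ) : ZMod l) ≠ 0
    exact_mod_cast three_ne hlf hf3
  refine tw_not_same hA_TwE_a CoTabTwEa.cert (by decide +kernel) CoTabTwEa.sl hq hK hp hl (ph2 hpe) hlG ?_
  rcases hf with rfl | rfl | rfl | rfl | rfl
  · refine fact_le (l := l) (U := ((q : ℤ) ^ (2:ℕ) + q + 1) ^ (2:ℕ)) (V := (q : ℤ) ^ (36:ℕ) * ((q : ℤ) - 1) ^ (4:ℕ) * ((q : ℤ) + 1) ^ (6:ℕ) * ((q : ℤ) ^ (2:ℕ) + 1) ^ (2:ℕ) * ((q : ℤ) ^ (2:ℕ) - q + 1) ^ (3:ℕ) * ((q : ℤ) ^ (4:ℕ) + 1) * ((q : ℤ) ^ (4:ℕ) - (q : ℤ) ^ (3:ℕ) + (q : ℤ) ^ (2:ℕ) - (q : ℤ) + 1) * ((q : ℤ) ^ (4:ℕ) - (q : ℤ) ^ (2:ℕ) + 1) * ((q : ℤ) ^ (6:ℕ) - (q : ℤ) ^ (3:ℕ) + 1)) ?_ ?_ ?_ h1 hden h2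
    · refine hc.trans (dvd_of_eq ?_)
      exact Cfsg.Agent.H996.Eight.Kq.eq_of (q : ℤ) (by decide +kernel)
    · simp only [Int.cast_mul, Int.cast_pow, Int.cast_add, Int.cast_sub, Int.cast_one, Int.cast_natCast]
      exact mul_ne_zero (mul_ne_zero (mul_ne_zero (mul_ne_zero (mul_ne_zero (mul_ne_zero (mul_ne_zero (mul_ne_zero (pow_ne_zero _ (f0 hlf (by decide))) (pow_ne_zero _ (f1 hlf (by decide)))) (pow_ne_zero _ (f2 hlf (by decide)))) (pow_ne_zero _ (f4 hlf (by decide)))) (pow_ne_zero _ (g3_6 hlf))) (f8 hlf (by decide))) (f10 hlf (by decide))) (g3_12 hlf)) (g3_18 hlf)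
    · exact ⟨(q : ℤ) ^ (7:ℕ) * ((q : ℤ) ^ (2:ℕ) - q + 1) ^ (3:ℕ) * ((q : ℤ) ^ (4:ℕ) + 1) * ((q : ℤ) ^ (4:ℕ) - (q : ℤ) ^ (3:ℕ) + (q : ℤ) ^ (2:ℕ) - (q : ℤ) + 1) * ((q : ℤ) ^ (4:ℕ) - (q : ℤ) ^ (2:ℕ) + 1), Cfsg.Agent.H996.Eight.Kq.eq_of (q : ℤ) (by decide +kernel)⟩
  · refine fact_le (l := l) (U := ((q : ℤ) ^ (2:ℕ) - q + 1) ^ (3:ℕ)) (V := (q : ℤ) ^ (36:ℕ) * ((q : ℤ) - 1) ^ (4:ℕ) * ((q : ℤ) + 1) ^ (6:ℕ) * ((q : ℤ) ^ (2:ℕ) + q + 1) ^ (2:ℕ) * ((q : ℤ) ^ (2:ℕ) + 1) ^ (2:ℕ) * ((q : ℤ) ^ (4:ℕ) + 1) * ((q : ℤ) ^ (4:ℕ) - (q : ℤ) ^ (3:ℕ) + (q : ℤ) ^ (2:ℕ) - (q : ℤ) + 1) * ((q : ℤ) ^ (4:ℕ) - (q : ℤ) ^ (2:ℕ) + 1) * ((q : ℤ) ^ (6:ℕ) - (q : ℤ) ^ (3:ℕ) + 1)) ?_ ?_ ?_ h1 hden h2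
    · refine hc.trans (dvd_of_eq ?_)
      exact Cfsg.Agent.H996.Eight.Kq.eq_of (q : ℤ) (by decide +kernel)
    · simp only [Int.cast_mul, Int.cast_pow, Int.cast_add, Int.cast_sub, Int.cast_one, Int.cast_natCast]
      exact mul_ne_zero (mul_ne_zero (mul_ne_zero (mul_ne_zero (mul_ne_zero (mul_ne_zero (mul_ne_zero (mul_ne_zero (pow_ne_zero _ (f0 hlf (by decide))) (pow_ne_zero _ (f1 hlf (by decide)))) (pow_ne_zero _ (f2 hlf (by decide)))) (pow_ne_zero _ (f3 hlf (by decide)))) (pow_ne_zero _ (f4 hlf (by decide)))) (f8 hlf (by decide))) (f10 hlf (by decide))) (g6_12 hlf)) (g6_18 hlf)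
    · exact ⟨(q : ℤ) ^ (7:ℕ) * ((q : ℤ) ^ (2:ℕ) + q + 1) ^ (2:ℕ) * ((q : ℤ) ^ (4:ℕ) + 1) * ((q : ℤ) ^ (4:ℕ) - (q : ℤ) ^ (3:ℕ) + (q : ℤ) ^ (2:ℕ) - (q : ℤ) + 1) * ((q : ℤ) ^ (4:ℕ) - (q : ℤ) ^ (2:ℕ) + 1), Cfsg.Agent.H996.Eight.Kq.eq_of (q : ℤ) (by decide +kernel)⟩
  · refine fact_le (l := l) (U := ((q : ℤ) ^ (4:ℕ) + 1)) (V := (q : ℤ) ^ (36:ℕ) * ((q : ℤ) - 1) ^ (4:ℕ) * ((q : ℤ) + 1) ^ (6:ℕ) * ((q : ℤ) ^ (2:ℕ) + q + 1) ^ (2:ℕ) * ((q : ℤ) ^ (2:ℕ) + 1) ^ (2:ℕ) * ((q : ℤ) ^ (2:ℕ) - q + 1) ^ (3:ℕ) * ((q : ℤ) ^ (4:ℕ) - (q : ℤ) ^ (3:ℕ) + (q : ℤ) ^ (2:ℕ) - (q : ℤ) + 1) * ((q : ℤ) ^ (4:ℕ) - (q : ℤ) ^ (2:ℕ) + 1) * ((q : ℤ) ^ (6:ℕ) - (q : ℤ) ^ (3:ℕ) + 1)) ?_ ?_ ?_ h1 hden h2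
    · refine hc.trans (dvd_of_eq ?_)
      exact Cfsg.Agent.H996.Eight.Kq.eq_of (q : ℤ) (by decide +kernel)
    · simp only [Int.cast_mul, Int.cast_pow, Int.cast_add, Int.cast_sub, Int.cast_one, Int.cast_natCast]
      exact mul_ne_zero (mul_ne_zero (mul_ne_zero (mul_ne_zero (mul_ne_zero (mul_ne_zero (mul_ne_zero (mul_ne_zero (pow_ne_zero _ (f0 hlf (by decide))) (pow_ne_zero _ (f1 hlf (by decide)))) (pow_ne_zero _ (f2 hlf (by decide)))) (pow_ne_zero _ (f3 hlf (by decide)))) (pow_ne_zero _ (f4 hlf (by decide)))) (pow_ne_zero _ (f6 hlf (by decide)))) (f10 hlf (by decide))) (f12 hlf (by decide))) (f18 hlf (by decide))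
    · exact ⟨(q : ℤ) ^ (7:ℕ) * ((q : ℤ) ^ (2:ℕ) + q + 1) ^ (2:ℕ) * ((q : ℤ) ^ (2:ℕ) - q + 1) ^ (3:ℕ) * ((q : ℤ) ^ (4:ℕ) - (q : ℤ) ^ (3:ℕ) + (q : ℤ) ^ (2:ℕ) - (q : ℤ) + 1) * ((q : ℤ) ^ (4:ℕ) - (q : ℤ) ^ (2:ℕ) + 1), Cfsg.Agent.H996.Eight.Kq.eq_of (q : ℤ) (by decide +kernel)⟩
  · refine fact_le (l := l) (U := ((q : ℤ) ^ (4:ℕ) - (q : ℤ) ^ (3:ℕ) + (q : ℤ) ^ (2:ℕ) - (q : ℤ) + 1)) (V := (q : ℤ) ^ (36:ℕ) * ((q : ℤ) - 1) ^ (4:ℕ) * ((q : ℤ) + 1) ^ (6:ℕ) * ((q : ℤ) ^ (2:ℕ) + q + 1) ^ (2:ℕ) * ((q : ℤ) ^ (2:ℕ) + 1) ^ (2:ℕ) * ((q : ℤ) ^ (2:ℕ) - q + 1) ^ (3:ℕ) * ((q : ℤ) ^ (4:ℕ) + 1) * ((q : ℤ) ^ (4:ℕ) - (q : ℤ) ^ (2:ℕ) + 1) * ((q : ℤ) ^ (6:ℕ) - (q : ℤ) ^ (3:ℕ) + 1)) ?_ ?_ ?_ h1 hden h2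
    · refine hc.trans (dvd_of_eq ?_)
      exact Cfsg.Agent.H996.Eight.Kq.eq_of (q : ℤ) (by decide +kernel)
    · simp only [Int.cast_mul, Int.cast_pow, Int.cast_add, Int.cast_sub, Int.cast_one, Int.cast_natCast]
      exact mul_ne_zero (mul_ne_zero (mul_ne_zero (mul_ne_zero (mul_ne_zero (mul_ne_zero (mul_ne_zero (mul_ne_zero (pow_ne_zero _ (f0 hlf (by decide))) (pow_ne_zero _ (f1 hlf (by decide)))) (pow_ne_zero _ (f2 hlf (by decide)))) (pow_ne_zero _ (f3 hlf (by decide)))) (pow_ne_zero _ (f4 hlf (by decide)))) (pow_ne_zero _ (f6 hlf (by decide)))) (f8 hlf (by decide))) (f12 hlf (by decide))) (f18 hlf (by decide))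
    · exact ⟨(q : ℤ) ^ (7:ℕ) * ((q : ℤ) ^ (2:ℕ) + q + 1) ^ (2:ℕ) * ((q : ℤ) ^ (2:ℕ) - q + 1) ^ (3:ℕ) * ((q : ℤ) ^ (4:ℕ) + 1) * ((q : ℤ) ^ (4:ℕ) - (q : ℤ) ^ (2:ℕ) + 1), Cfsg.Agent.H996.Eight.Kq.eq_of (q : ℤ) (by decide +kernel)⟩
  · refine fact_le (l := l) (U := ((q : ℤ) ^ (4:ℕ) - (q : ℤ) ^ (2:ℕ) + 1)) (V := (q : ℤ) ^ (36:ℕ) * ((q : ℤ) - 1) ^ (4:ℕ) * ((q : ℤ) + 1) ^ (6:ℕ) * ((q : ℤ) ^ (2:ℕ) + q + 1) ^ (2:ℕ) * ((q : ℤ) ^ (2:ℕ) + 1) ^ (2:ℕ) * ((q : ℤ) ^ (2:ℕ) - q + 1) ^ (3:ℕ) * ((q : ℤ) ^ (4:ℕ) + 1) * ((q : ℤ) ^ (4:ℕ) - (q : ℤ) ^ (3:ℕ) + (q : ℤ) ^ (2:ℕ) - (q : ℤ) + 1) * ((q : ℤ) ^ (6:ℕ) - (q : ℤ) ^ (3:ℕ) + 1)) ?_ ?_ ?_ h1 hden h2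
    · refine hc.trans (dvd_of_eq ?_)
      exact Cfsg.Agent.H996.Eight.Kq.eq_of (q : ℤ) (by decide +kernel)
    · simp only [Int.cast_mul, Int.cast_pow, Int.cast_add, Int.cast_sub, Int.cast_one, Int.cast_natCast]
      exact mul_ne_zero (mul_ne_zero (mul_ne_zero (mul_ne_zero (mul_ne_zero (mul_ne_zero (mul_ne_zero (mul_ne_zero (pow_ne_zero _ (f0 hlf (by decide))) (pow_ne_zero _ (f1 hlf (by decide)))) (pow_ne_zero _ (f2 hlf (by decide)))) (pow_ne_zero _ (f3 hlf (by decide)))) (pow_ne_zero _ (f4 hlf (by decide)))) (pow_ne_zero _ (f6 hlf (by decide)))) (f8 hlf (by decide))) (f10 hlf (by decide))) (f18 hlf (by decide))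
    · exact ⟨(q : ℤ) ^ (7:ℕ) * ((q : ℤ) ^ (2:ℕ) + q + 1) ^ (2:ℕ) * ((q : ℤ) ^ (2:ℕ) - q + 1) ^ (3:ℕ) * ((q : ℤ) ^ (4:ℕ) + 1) * ((q : ℤ) ^ (4:ℕ) - (q : ℤ) ^ (3:ℕ) + (q : ℤ) ^ (2:ℕ) - (q : ℤ) + 1), Cfsg.Agent.H996.Eight.Kq.eq_of (q : ℤ) (by decide +kernel)⟩

theorem evdn_TwE_b (x : ℤ) : evZ x CoTabTwEb.cert.dn = x ^ (15:ℕ) * (x ^ (4:ℕ) + 1) * (x ^ (4:ℕ) - x ^ (3:ℕ) + x ^ (2:ℕ) - x + 1) * (x ^ (4:ℕ) - x ^ (2:ℕ) + 1) * (x ^ (6:ℕ) - x ^ (3:ℕ) + 1) :=
  Cfsg.Agent.H996.Eight.Kq.ev_of (by decide +kernel)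

/-- **`²E₆(q)`: the pairs of orders `(4, f)`.** -/
theorem kill_TwE_b {K : Type u} [Field K] [Fintype K] {q : ℕ} (hq : IsPrimePow q) (hK : Fintype.card K = q ^ (2:ℕ)) :
    ∀ f ∈ [8, 10, 12, 18], Kill ↥(twistedE6 K q) q 4 f := by
  intro f hf p l hp hl hp2 hl2 hpl hpG hlG hpe hlf
  have : Fact p.Prime := ⟨hp⟩
  have : Fact l.Prime := ⟨hl⟩
  have hq2 : 2 ≤ q := hq.two_le
  have hc := card_TwE hq hK
  obtain ⟨h1, h2⟩ := degZ CoTabTwEb.cert hq2
  rw [evdn_TwE_b] at h1
  simp only [List.mem_cons, List.not_mem_nil, or_false] at hf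
  have hf3 : 3 ≤ f := by
    rcases hf with rfl | rfl | rfl | rfl <;> norm_num
  have hden : ((CoTabTwEb.cert.den : ℕ) : ZMod l) ≠ 0 := by
    show ((2 : ℕ) : ZMod l) ≠ 0
    exact_mod_cast two_ne hlf hf3
  refine tw_not_same hA_TwE_b CoTabTwEb.cert (by decide +kernel) CoTabTwEb.sl hq hK hp hl (ph4 hpe) hlG ?_
  rcases hf with rfl | rfl | rfl | rfl
  · refine fact_le (l := l) (U := ((q : ℤ) ^ (4:ℕ) + 1)) (V := (q : ℤ) ^ (36:ℕ) * ((q : ℤ) - 1) ^ (4:ℕ) * ((q : ℤ) + 1) ^ (6:ℕ) * ((q : ℤ) ^ (2:ℕ) + q + 1) ^ (2:ℕ) * ((q : ℤ) ^ (2:ℕ) + 1) ^ (2:ℕ) * ((q : ℤ) ^ (2:ℕ) - q + 1) ^ (3:ℕ) * ((q : ℤ) ^ (4:ℕ) - (q : ℤ) ^ (3:ℕ) + (q : ℤ) ^ (2:ℕ) - (q : ℤ) + 1) * ((q : ℤ) ^ (4:ℕ) - (q : ℤ) ^ (2:ℕ) + 1) * ((q : ℤ) ^ (6:ℕ) - (q : ℤ) ^ (3:ℕ) + 1)) ?_ ?_ ?_ h1 hden h2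
    · refine hc.trans (dvd_of_eq ?_)
      exact Cfsg.Agent.H996.Eight.Kq.eq_of (q : ℤ) (by decide +kernel)
    · simp only [Int.cast_mul, Int.cast_pow, Int.cast_add, Int.cast_sub, Int.cast_one, Int.cast_natCast]
      exact mul_ne_zero (mul_ne_zero (mul_ne_zero (mul_ne_zero (mul_ne_zero (mul_ne_zero (mul_ne_zero (mul_ne_zero (pow_ne_zero _ (f0 hlf (by decide))) (pow_ne_zero _ (f1 hlf (by decide)))) (pow_ne_zero _ (f2 hlf (by decide)))) (pow_ne_zero _ (f3 hlf (by decide)))) (pow_ne_zero _ (f4 hlf (by decide)))) (pow_ne_zero _ (f6 hlf (by decide)))) (f10 hlf (by decide))) (f12 hlf (by decide))) (f18 hlf (by decide))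
    · exact ⟨(q : ℤ) ^ (15:ℕ) * ((q : ℤ) ^ (4:ℕ) - (q : ℤ) ^ (3:ℕ) + (q : ℤ) ^ (2:ℕ) - (q : ℤ) + 1) * ((q : ℤ) ^ (4:ℕ) - (q : ℤ) ^ (2:ℕ) + 1) * ((q : ℤ) ^ (6:ℕ) - (q : ℤ) ^ (3:ℕ) + 1), Cfsg.Agent.H996.Eight.Kq.eq_of (q : ℤ) (by decide +kernel)⟩
  · refine fact_le (l := l) (U := ((q : ℤ) ^ (4:ℕ) - (q : ℤ) ^ (3:ℕ) + (q : ℤ) ^ (2:ℕ) - (q : ℤ) + 1)) (V := (q : ℤ) ^ (36:ℕ) * ((q : ℤ) - 1) ^ (4:ℕ) * ((q : ℤ) + 1) ^ (6:ℕ) * ((q : ℤ) ^ (2:ℕ) + q + 1) ^ (2:ℕ) * ((q : ℤ) ^ (2:ℕ) + 1) ^ (2:ℕ) * ((q : ℤ) ^ (2:ℕ) - q + 1) ^ (3:ℕ) * ((q : ℤ) ^ (4:ℕ) + 1) * ((q : ℤ) ^ (4:ℕ) - (q : ℤ) ^ (2:ℕ) + 1) * ((q : ℤ) ^ (6:ℕ) - (q : ℤ) ^ (3:ℕ) + 1)) ?_ ?_ ?_ h1 hden h2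
    · refine hc.trans (dvd_of_eq ?_)
      exact Cfsg.Agent.H996.Eight.Kq.eq_of (q : ℤ) (by decide +kernel)
    · simp only [Int.cast_mul, Int.cast_pow, Int.cast_add, Int.cast_sub, Int.cast_one, Int.cast_natCast]
      exact mul_ne_zero (mul_ne_zero (mul_ne_zero (mul_ne_zero (mul_ne_zero (mul_ne_zero (mul_ne_zero (mul_ne_zero (pow_ne_zero _ (f0 hlf (by decide))) (pow_ne_zero _ (f1 hlf (by decide)))) (pow_ne_zero _ (f2 hlf (by decide)))) (pow_ne_zero _ (f3 hlf (by decide)))) (pow_ne_zero _ (f4 hlf (by decide)))) (pow_ne_zero _ (f6 hlf (by decide)))) (f8 hlf (by decide))) (f12 hlf (by decide))) (f18 hlf (by decide))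
    · exact ⟨(q : ℤ) ^ (15:ℕ) * ((q : ℤ) ^ (4:ℕ) + 1) * ((q : ℤ) ^ (4:ℕ) - (q : ℤ) ^ (2:ℕ) + 1) * ((q : ℤ) ^ (6:ℕ) - (q : ℤ) ^ (3:ℕ) + 1), Cfsg.Agent.H996.Eight.Kq.eq_of (q : ℤ) (by decide +kernel)⟩
  · refine fact_le (l := l) (U := ((q : ℤ) ^ (4:ℕ) - (q : ℤ) ^ (2:ℕ) + 1)) (V := (q : ℤ) ^ (36:ℕ) * ((q : ℤ) - 1) ^ (4:ℕ) * ((q : ℤ) + 1) ^ (6:ℕ) * ((q : ℤ) ^ (2:ℕ) + q + 1) ^ (2:ℕ) * ((q : ℤ) ^ (2:ℕ) + 1) ^ (2:ℕ) * ((q : ℤ) ^ (2:ℕ) - q + 1) ^ (3:ℕ) * ((q : ℤ) ^ (4:ℕ) + 1) * ((q : ℤ) ^ (4:ℕ) - (q : ℤ) ^ (3:ℕ) + (q : ℤ) ^ (2:ℕ) - (q : ℤ) + 1) * ((q : ℤ) ^ (6:ℕ) - (q : ℤ) ^ (3:ℕ) + 1)) ?_ ?_ ?_ h1 hden h2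
    · refine hc.trans (dvd_of_eq ?_)
      exact Cfsg.Agent.H996.Eight.Kq.eq_of (q : ℤ) (by decide +kernel)
    · simp only [Int.cast_mul, Int.cast_pow, Int.cast_add, Int.cast_sub, Int.cast_one, Int.cast_natCast]
      exact mul_ne_zero (mul_ne_zero (mul_ne_zero (mul_ne_zero (mul_ne_zero (mul_ne_zero (mul_ne_zero (mul_ne_zero (pow_ne_zero _ (f0 hlf (by decide))) (pow_ne_zero _ (f1 hlf (by decide)))) (pow_ne_zero _ (f2 hlf (by decide)))) (pow_ne_zero _ (f3 hlf (by decide)))) (pow_ne_zero _ (f4 hlf (by decide)))) (pow_ne_zero _ (f6 hlf (by decide)))) (f8 hlf (by decide))) (f10 hlf (by decide))) (f18 hlf (by decide))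
    · exact ⟨(q : ℤ) ^ (15:ℕ) * ((q : ℤ) ^ (4:ℕ) + 1) * ((q : ℤ) ^ (4:ℕ) - (q : ℤ) ^ (3:ℕ) + (q : ℤ) ^ (2:ℕ) - (q : ℤ) + 1) * ((q : ℤ) ^ (6:ℕ) - (q : ℤ) ^ (3:ℕ) + 1), Cfsg.Agent.H996.Eight.Kq.eq_of (q : ℤ) (by decide +kernel)⟩
  · refine fact_le (l := l) (U := ((q : ℤ) ^ (6:ℕ) - (q : ℤ) ^ (3:ℕ) + 1)) (V := (q : ℤ) ^ (36:ℕ) * ((q : ℤ) - 1) ^ (4:ℕ) * ((q : ℤ) + 1) ^ (6:ℕ) * ((q : ℤ) ^ (2:ℕ) + q + 1) ^ (2:ℕ) * ((q : ℤ) ^ (2:ℕ) + 1) ^ (2:ℕ) * ((q : ℤ) ^ (2:ℕ) - q + 1) ^ (3:ℕ) * ((q : ℤ) ^ (4:ℕ) + 1) * ((q : ℤ) ^ (4:ℕ) - (q : ℤ) ^ (3:ℕ) + (q : ℤ) ^ (2:ℕ) - (q : ℤ) + 1) * ((q : ℤ) ^ (4:ℕ) - (q : ℤ) ^ (2:ℕ) + 1)) ?_ ?_ ?_ h1 hden h2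
    · refine hc.trans (dvd_of_eq ?_)
      exact Cfsg.Agent.H996.Eight.Kq.eq_of (q : ℤ) (by decide +kernel)
    · simp only [Int.cast_mul, Int.cast_pow, Int.cast_add, Int.cast_sub, Int.cast_one, Int.cast_natCast]
      exact mul_ne_zero (mul_ne_zero (mul_ne_zero (mul_ne_zero (mul_ne_zero (mul_ne_zero (mul_ne_zero (mul_ne_zero (pow_ne_zero _ (f0 hlf (by decide))) (pow_ne_zero _ (f1 hlf (by decide)))) (pow_ne_zero _ (f2 hlf (by decide)))) (pow_ne_zero _ (f3 hlf (by decide)))) (pow_ne_zero _ (f4 hlf (by decide)))) (pow_ne_zero _ (f6 hlf (by decide)))) (f8 hlf (by decide))) (f10 hlf (by decide))) (f12 hlf (by decide))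
    · exact ⟨(q : ℤ) ^ (15:ℕ) * ((q : ℤ) ^ (4:ℕ) + 1) * ((q : ℤ) ^ (4:ℕ) - (q : ℤ) ^ (3:ℕ) + (q : ℤ) ^ (2:ℕ) - (q : ℤ) + 1) * ((q : ℤ) ^ (4:ℕ) - (q : ℤ) ^ (2:ℕ) + 1), Cfsg.Agent.H996.Eight.Kq.eq_of (q : ℤ) (by decide +kernel)⟩

end Cfsg.Agent.H423.PQ
end
end
end
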